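import Cfsg.Agent.Lib.Invol.TIPair.Jordan
import Cfsg.Agent.Lib.Invol.IsolatedSylow
import Cfsg.Agent.Lib.Char.Zsigmondy.Main
import Mathlib.GroupTheory.Nilpotent
import Mathlib.GroupTheory.GroupAction.ConjAct

/-!
# An inverse-closed additive group of units is a field

The involutions `(a, c) ↦ (x c, x⁻¹ a)` form a class of isolated involutions, so every prime power
dividing `2 ^ k - 1` is the order of an inverted subgroup; this produces a generator.
-/

set_option autoImplicit false

namespace CfsgLib.Invol.TIPair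

open Subgroup
open scoped commutatorElement

universe u

variable {R : Type u} [Ring R] {L : AddSubgroup R}

/-- The anti-diagonal permutation of a unit. -/
def swp (x : Rˣ) : Equiv.Perm (R × R) where
  toFun p := ((x : R) * p.2, ((x⁻¹ : Rˣ) : R) * p.1)
  invFun p := ((x : R) * p.2, ((x⁻¹ : Rˣ) : R) * p.1)
  left_inv p := by simp
  right_inv p := by simp

theorem swp_apply (x : Rˣ) (p : R × R) : swp x p = ((x : R) * p.2, ((x⁻¹ : Rˣ) : R) * p.1) := rfl

theorem swp_sq (x : Rˣ) : swp x * swp x = 1 := by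
  ext p <;> simp [Equiv.Perm.mul_apply, swp_apply]

theorem swp_inv (x : Rˣ) : (swp x)⁻¹ = swp x := inv_eq_of_mul_eq_one_right (swp_sq x)

theorem swp_conj (x y : Rˣ) : swp x * swp y * (swp x)⁻¹ = swp (x * y⁻¹ * x) := by
  rw [swp_inv]
  ext p <;> simp [Equiv.Perm.mul_apply, swp_apply, mul_assoc]

theorem swp_inj {x y : Rˣ} (e : swp x = swp y) : x = y :=
  Units.ext (by simpa [swp_apply] using congrArg Prod.fst (Equiv.Perm.ext_iff.1 e (0, 1)))

theorem swp_mul_pow (b : Rˣ) : ∀ n : ℕ, ((swp 1 * swp b) ^ n) = Equiv.prodCongr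
    (Units.mulLeft (b⁻¹ ^ n)) (Units.mulLeft (b ^ n))
  | 0 => by ext p <;> simp
  | n + 1 => by
    rw [pow_succ', swp_mul_pow b n]
    ext p <;> simp [Equiv.Perm.mul_apply, swp_apply, pow_succ', mul_assoc]

theorem swp_mul_pow_eq_one {b : Rˣ} {n : ℕ} : (swp 1 * swp b) ^ n = 1 ↔ b ^ n = 1 := by
  rw [swp_mul_pow]
  constructor
  · intro e
    exact Units.ext (by simpa using congrArg Prod.snd (Equiv.Perm.ext_iff.1 e (0, 1)))
  · intro e
    ext p <;> simp [inv_pow, e]

/-- The nonzero elements as units. -/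
def nzUnits (L : AddSubgroup R) : Set Rˣ := {x | (x : R) ∈ L}

variable (L) in
/-- The group of the anti-diagonal involutions. -/
def swpGroup : Subgroup (Equiv.Perm (R × R)) := closure (swp '' nzUnits L)

namespace InvClosed

variable (h : InvClosed L)
include h

theorem ne_zero_of_unit (x : Rˣ) : (x : R) ≠ 0 := fun e => h.nz (by
  rw [← x.mul_inv, e, zero_mul])

theorem inv_mem {x : Rˣ} (hx : (x : R) ∈ L) : ((x⁻¹ : Rˣ) : R) ∈ L := by
  obtain ⟨b, hb, hxb, -⟩ := h.inv _ hx (h.ne_zero_of_unit x)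
  rwa [Units.inv_eq_of_mul_eq_one_right hxb]

variable [Finite R]

theorem exists_unit {a : R} (ha : a ∈ L) (ha0 : a ≠ 0) : ∃ x : Rˣ, (x : R) = a := by
  obtain ⟨b, -, h1, h2⟩ := h.inv a ha ha0
  exact ⟨⟨a, b, h1, h2⟩, rfl⟩

theorem card_nz {k : ℕ} (hk : Nat.card L = 2 ^ k) : Nat.card (nzUnits L) = 2 ^ k - 1 := by
  classical
  letI := Fintype.ofFinite L
  have hc : Nat.card {a : L // ¬ a = 0} = 2 ^ k - 1 := by
    rw [Nat.card_eq_fintype_card, Fintype.card_subtype_compl, Fintype.card_subtype_eq,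
      ← Nat.card_eq_fintype_card, hk]
  rw [← hc]
  refine Nat.card_eq_of_bijective
    (fun x : nzUnits L => (⟨⟨_, x.2⟩, fun e => h.ne_zero_of_unit x.1 (congrArg Subtype.val e)⟩ :
      {a : L // ¬ a = 0})) ⟨fun x y e => ?_, fun a => ?_⟩
  · exact Subtype.ext (Units.ext (congrArg (fun a : {a : L // ¬ a = 0} => ((a : L) : R)) e))
  · obtain ⟨x, hx⟩ := h.exists_unit a.1.2 (fun e => a.2 (Subtype.ext e))
    exact ⟨⟨x, show (x : R) ∈ L from hx ▸ a.1.2⟩, Subtype.ext (Subtype.ext hx)⟩

theorem swp_mem {x : Rˣ} (hx : (x : R) ∈ L) : swp x ∈ swpGroup L := subset_closure ⟨x, hx, rfl⟩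

/-- The distinguished involution. -/
def base : swpGroup L := ⟨swp 1, h.swp_mem h.one⟩

theorem conj_base (g : swpGroup L) : ∃ x : Rˣ, (x : R) ∈ L ∧
    (g : Equiv.Perm (R × R)) * swp 1 * (g : Equiv.Perm (R × R))⁻¹ = swp x := by
  suffices ∀ g ∈ swpGroup L, ∀ y : Rˣ, (y : R) ∈ L → ∃ x : Rˣ, (x : R) ∈ L ∧ g * swp y * g⁻¹ = swp x from
    this g g.2 1 h.one
  intro g hg
  induction hg using closure_induction with
  | mem w hw =>
    obtain ⟨x, hx, rfl⟩ := hw
    intro y hy
    refine ⟨x * y⁻¹ * x, ?_, swp_conj x y⟩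
    rw [Units.val_mul, Units.val_mul]
    exact h.quad hx (h.inv_mem hy)
  | one => intro y hy; exact ⟨y, hy, by simp⟩
  | mul a b _ _ iha ihb =>
    intro y hy
    obtain ⟨x, hx, e⟩ := ihb y hy
    obtain ⟨x', hx', e'⟩ := iha x hx
    exact ⟨x', hx', by rw [← e', ← e]; group⟩
  | inv a ha iha =>
    intro y hy
    let f : nzUnits L → nzUnits L := fun x => ⟨(iha x x.2).choose, (iha x x.2).choose_spec.1⟩
    have hf : Function.Injective f := fun u v e => by
      have hu := (iha u u.2).choose_spec.2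
      have hv := (iha v v.2).choose_spec.2
      rw [show (iha u u.2).choose = (iha v v.2).choose from congrArg Subtype.val e, ← hv] at hu
      exact Subtype.ext (swp_inj (mul_left_cancel (mul_right_cancel hu)))
    obtain ⟨x, hx⟩ := (Finite.injective_iff_surjective.1 hf) ⟨y, hy⟩
    have e := (iha x x.2).choose_spec.2
    rw [show (iha x x.2).choose = y from congrArg Subtype.val hx] at e
    exact ⟨x, x.2, by rw [inv_inv, ← e]; group⟩

theorem exists_conj {x : Rˣ} (hx : (x : R) ∈ L) : ∃ g : swpGroup L,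
    (g : Equiv.Perm (R × R)) * swp 1 * (g : Equiv.Perm (R × R))⁻¹ = swp x := by
  obtain ⟨s, hs, hs0, hss⟩ := h.exists_sqrt hx (h.ne_zero_of_unit x)
  obtain ⟨u, rfl⟩ := h.exists_unit hs hs0
  refine ⟨⟨swp u, h.swp_mem hs⟩, ?_⟩
  show swp u * swp 1 * (swp u)⁻¹ = swp x
  rw [swp_conj, inv_one, mul_one, show u * u = x from Units.ext hss]

theorem isolated : Cfsg.IsIsolatedInvolution h.base := by
  refine ⟨orderOf_eq_prime (Subtype.ext (by rw [pow_two]; exact swp_sq 1)) (fun e => ?_), fun g hg => ?_⟩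
  · have e0 : swp (1 : Rˣ) = 1 := congrArg Subtype.val e
    have e1 := congrArg Prod.fst (Equiv.Perm.ext_iff.1 e0 (0, 1))
    simp [swp_apply] at e1
    exact h.nz e1
  obtain ⟨x, hx, e⟩ := h.conj_base g
  have e' : swp 1 * swp x = swp x * swp (1 : Rˣ) := by
    rw [← e]; exact congrArg Subtype.val hg.eq
  have e2 := congrArg Prod.fst (Equiv.Perm.ext_iff.1 e' (1, 0))
  simp [Equiv.Perm.mul_apply, swp_apply] at e2
  have hxx : (x : R) * x = 1 := by
    calc (x : R) * x = (x : R) * ((x⁻¹ : Rˣ) : R) := by rw [e2]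
      _ = 1 := x.mul_inv
  refine Subtype.ext ?_
  show (g : Equiv.Perm (R × R)) * swp 1 * (g : Equiv.Perm (R × R))⁻¹ = swp 1
  rw [e, show x = 1 from Units.ext (h.sq_eq_one hx hxx)]

theorem index_base {k : ℕ} (hk : Nat.card L = 2 ^ k) :
    (centralizer ({h.base} : Set (swpGroup L))).index = 2 ^ k - 1 := by
  rw [← h.card_nz hk, Subgroup.index]
  symm
  refine Nat.card_eq_of_bijective (fun x : nzUnits L => QuotientGroup.mk (h.exists_conj x.2).choose) ⟨fun x y e => ?_, fun q => ?_⟩
  · have hm := mem_centralizer_singleton_iff.1 (QuotientGroup.eq.1 e)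
    have hx := (h.exists_conj x.2).choose_spec
    have hy := (h.exists_conj y.2).choose_spec
    set a := (h.exists_conj x.2).choose
    set b := (h.exists_conj y.2).choose
    refine Subtype.ext (swp_inj ?_)
    rw [← hx, ← hy]
    have e1 : (a : Equiv.Perm (R × R))⁻¹ * (b : Equiv.Perm (R × R)) * swp 1 =
        swp 1 * ((a : Equiv.Perm (R × R))⁻¹ * (b : Equiv.Perm (R × R))) :=
      congrArg Subtype.val hm
    calc (a : Equiv.Perm (R × R)) * swp 1 * (a : Equiv.Perm (R × R))⁻¹
        = (a : Equiv.Perm (R × R)) * (swp 1 * ((a : Equiv.Perm (R × R))⁻¹ * (b : Equiv.Perm (R × R)))) *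
            (b : Equiv.Perm (R × R))⁻¹ := by group
      _ = (b : Equiv.Perm (R × R)) * swp 1 * (b : Equiv.Perm (R × R))⁻¹ := by rw [← e1]; group
  · induction q using QuotientGroup.induction_on with
    | _ g =>
      obtain ⟨x, hx, e⟩ := h.conj_base g
      refine ⟨⟨x, hx⟩, QuotientGroup.eq.2 (mem_centralizer_singleton_iff.2 (Subtype.ext ?_))⟩
      have hc := (h.exists_conj (x := x) hx).choose_spec
      set a := (h.exists_conj (x := x) hx).choose
      show ((a : Equiv.Perm (R × R))⁻¹ * (g : Equiv.Perm (R × R))) * swp 1 =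
        swp 1 * ((a : Equiv.Perm (R × R))⁻¹ * (g : Equiv.Perm (R × R)))
      calc ((a : Equiv.Perm (R × R))⁻¹ * (g : Equiv.Perm (R × R))) * swp 1
          = (a : Equiv.Perm (R × R))⁻¹ * ((g : Equiv.Perm (R × R)) * swp 1 * (g : Equiv.Perm (R × R))⁻¹) *
              (g : Equiv.Perm (R × R)) := by
            group
        _ = _ := by rw [e, ← hc]; group

/-- An inverted odd element is a product with the base involution. -/
theorem exists_of_inverted {g : swpGroup L} (hg : Odd (orderOf g)) (hi : h.base * g * h.base⁻¹ = g⁻¹) :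
    ∃ b : Rˣ, (b : R) ∈ L ∧ (g : Equiv.Perm (R × R)) = swp 1 * swp b := by
  obtain ⟨m, hm⟩ := hg
  set w := g ^ (m + 1) with hw
  have hww : w * w = g := by
    rw [hw, ← pow_add, show m + 1 + (m + 1) = orderOf g + 1 by omega, pow_succ, pow_orderOf_eq_one, one_mul]
  have hwi : h.base * w * h.base⁻¹ = w⁻¹ := by rw [hw, ← conj_pow, hi, inv_pow]
  obtain ⟨x, hx, e⟩ := h.conj_base w⁻¹
  refine ⟨x, hx, ?_⟩
  rw [← e]
  have : g = h.base * (w⁻¹ * h.base * w⁻¹⁻¹) := by
    have hb : h.base * h.base = 1 := Subtype.ext (swp_sq 1)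
    calc g = (w⁻¹)⁻¹ * w := by rw [inv_inv, hww]
      _ = (h.base * w * h.base⁻¹)⁻¹ * w := by rw [hwi]
      _ = _ := by rw [inv_eq_of_mul_eq_one_right hb]; group; simp [zpow_neg_one, inv_eq_of_mul_eq_one_right hb]
  exact congrArg Subtype.val this

/-- An inverted `p`-subgroup of the right size. -/
theorem exists_inverted {k p e : ℕ} (hk : Nat.card L = 2 ^ k) [Fact p.Prime] (hp : p ≠ 2)
    (hdvd : p ^ e ∣ 2 ^ k - 1) : ∃ P : Subgroup (swpGroup L), IsPGroup p P ∧
      h.base ∈ normalizer (P : Set (swpGroup L)) ∧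
      p ^ e ≤ Nat.card {g : swpGroup L // g ∈ P ∧ h.base * g * h.base⁻¹ = g⁻¹} := by
  obtain ⟨P, hP⟩ := exists_sylow_normalized_odd h.isolated (p := p) hp
  refine ⟨P, P.2, hP, ?_⟩
  rw [← relIndex_inverted h.isolated hp (P : Subgroup (swpGroup L)) P.2 hP]
  set C := centralizer ({h.base} : Set (swpGroup L))
  have h1 := not_dvd_relIndex_centralizer h.isolated hp P hP
  have h2 := Subgroup.relIndex_mul_index (inf_le_left : (P : Subgroup (swpGroup L)) ⊓ C ≤ P)
  have h3 := Subgroup.relIndex_mul_index (inf_le_right : (P : Subgroup (swpGroup L)) ⊓ C ≤ C)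
  rw [h.index_base hk] at h3
  rw [← h2] at h3
  have hcop : (p ^ e).Coprime (P : Subgroup (swpGroup L)).index :=
    Nat.Coprime.pow_left _ ((Fact.out : p.Prime).coprime_iff_not_dvd.2 P.not_dvd_index)
  refine Nat.le_of_dvd (Nat.pos_of_ne_zero (Subgroup.index_ne_zero_of_finite (H :=
    ((P : Subgroup (swpGroup L)) ⊓ C).subgroupOf P))) (hcop.dvd_of_dvd_mul_right ?_)
  rw [← h3]
  exact dvd_mul_of_dvd_right hdvd _

/-- An element of prime order. -/
theorem exists_order {k p : ℕ} (hk : Nat.card L = 2 ^ k) [Fact p.Prime] (hp : p ≠ 2) (hdvd : p ∣ 2 ^ k - 1) :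
    ∃ a ∈ L, a ≠ 0 ∧ p ∣ orderOf a := by
  obtain ⟨P, hPp, -, hcard⟩ := h.exists_inverted hk (e := 1) hp (by rwa [pow_one])
  obtain ⟨g, hg1⟩ : ∃ g : {g : swpGroup L // g ∈ P ∧ h.base * g * h.base⁻¹ = g⁻¹}, g.1 ≠ 1 := by
    by_contra hall
    push Not at hall
    haveI : Subsingleton {g : swpGroup L // g ∈ P ∧ h.base * g * h.base⁻¹ = g⁻¹} :=
      ⟨fun u v => Subtype.ext ((hall u).trans (hall v).symm)⟩
    have := Finite.card_le_one_iff_subsingleton.2 this
    have := (Fact.out : p.Prime).one_lt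
    rw [pow_one] at hcard
    omega
  obtain ⟨j, hj⟩ := (IsPGroup.iff_orderOf.1 hPp) ⟨g.1, g.2.1⟩
  rw [Subgroup.orderOf_mk] at hj
  obtain ⟨b, hb, e⟩ := h.exists_of_inverted (g := g.1)
    (hj ▸ ((Fact.out : p.Prime).odd_of_ne_two hp).pow) g.2.2
  refine ⟨b, hb, h.ne_zero_of_unit b, ?_⟩
  rw [orderOf_units]
  have hoe : orderOf b = orderOf g.1 := by
    rw [← Subgroup.orderOf_coe, e]
    exact orderOf_eq_orderOf_iff.2 fun n => swp_mul_pow_eq_one.symm
  rw [hoe, hj]
  have : j ≠ 0 := fun e => hg1 (orderOf_eq_one_iff.1 (by rw [hj, e, pow_zero]))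
  exact dvd_pow_self p this

/-- The sixty-four element case. -/
theorem exists_nine (hk : Nat.card L = 2 ^ 6) : ∃ a ∈ L, a ≠ 0 ∧ 9 ∣ orderOf a := by
  classical
  haveI : Fact (Nat.Prime 3) := ⟨Nat.prime_three⟩
  obtain ⟨P, hPp, -, hcard⟩ := h.exists_inverted hk (p := 3) (e := 2) (by norm_num) (by norm_num)
  by_contra hno
  push Not at hno
  let S : Set (swpGroup L) := {g | g ∈ P ∧ h.base * g * h.base⁻¹ = g⁻¹}
  have hS : ∀ g ∈ S, ∃ b : Rˣ, (b : R) ∈ L ∧ (g : Equiv.Perm (R × R)) = swp 1 * swp b ∧ b ^ 3 = 1 ∧ g ^ 3 = 1 := by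
    intro g hg
    obtain ⟨j, hj⟩ := (IsPGroup.iff_orderOf.1 hPp) ⟨g, hg.1⟩
    rw [Subgroup.orderOf_mk] at hj
    obtain ⟨b, hb, e⟩ := h.exists_of_inverted (g := g) (hj ▸ (Nat.prime_three.odd_of_ne_two (by norm_num)).pow) hg.2
    have hoe : orderOf b = orderOf g := by
      rw [← Subgroup.orderOf_coe, e]
      exact orderOf_eq_orderOf_iff.2 fun n => swp_mul_pow_eq_one.symm
    have h3 : b ^ 3 = 1 := by
      refine orderOf_dvd_iff_pow_eq_one.1 ?_
      have hn := hno _ hb (h.ne_zero_of_unit b)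
      rw [orderOf_units, hoe, hj] at hn
      rw [hoe, hj]
      rcases j with _ | _ | j
      · simp
      · norm_num
      · exact absurd (dvd_mul_of_dvd_right (show 9 ∣ 3 ^ 2 by norm_num) (3 ^ j)) (by
          rwa [← pow_add])
    refine ⟨b, hb, e, h3, Subtype.ext ?_⟩
    rw [SubmonoidClass.coe_pow, e]
    exact swp_mul_pow_eq_one.2 h3
  -- commuting members generate each other
  have hcomm : ∀ x ∈ S, ∀ y ∈ S, x * y = y * x → x ≠ 1 → y ∈ zpowers x := by
    intro x hx y hy hxy hx1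
    by_cases hy1 : y = 1
    · rw [hy1]; exact one_mem _
    obtain ⟨b, hb, eb, hb3, -⟩ := hS x hx
    obtain ⟨c, hc, ec, hc3, -⟩ := hS y hy
    have key : (b : R) * c = (c : R) * b := by
      have := congrArg Prod.snd (Equiv.Perm.ext_iff.1 (congrArg Subtype.val hxy : (x : Equiv.Perm (R × R)) * y = y * x) (0, 1))
      simpa [eb, ec, Equiv.Perm.mul_apply, swp_apply] using this
    have hne : ∀ (g : swpGroup L) (d : Rˣ), (g : Equiv.Perm (R × R)) = swp 1 * swp d → g ≠ 1 → (d : R) ≠ 1 := by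
      intro g d e hg e1
      refine hg (Subtype.ext ?_)
      rw [e, show d = 1 from Units.ext e1, swp_sq]; rfl
    rcases h.three_comm hb hc (by rw [← Units.val_pow_eq_pow_val, hb3, Units.val_one])
      (by rw [← Units.val_pow_eq_pow_val, hc3, Units.val_one]) (hne x b eb hx1) (hne y c ec hy1) key with e | e
    · rw [show y = x from Subtype.ext (by rw [eb, ec, Units.ext e])]
      exact mem_zpowers x
    · have : y = x ^ 2 := Subtype.ext (by
        rw [SubmonoidClass.coe_pow, eb, ec, Units.ext (e.trans (Units.val_pow_eq_pow_val b 2).symm)]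
        rw [swp_mul_pow, ← pow_one (swp (1 : Rˣ) * swp (b ^ 2)), swp_mul_pow, pow_one, pow_one, inv_pow])
      rw [this]; exact (zpowers x).pow_mem (mem_zpowers x) 2
  have hbig : ∀ x ∈ S, x ≠ 1 → ∃ y ∈ S, y ∉ zpowers x := by
    intro x hx hx1
    by_contra hall
    push Not at hall
    have h1 : Nat.card {g : swpGroup L // g ∈ P ∧ h.base * g * h.base⁻¹ = g⁻¹} ≤ Nat.card (zpowers x) :=
      Nat.card_le_card_of_injective (fun g => (⟨g.1, hall g.1 g.2⟩ : zpowers x))
        fun u v e => Subtype.ext (Subtype.mk.inj e)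
    obtain ⟨b, -, -, -, hx3⟩ := hS x hx
    have h2 : Nat.card (zpowers x) ≤ 3 := by
      rw [Nat.card_zpowers]; exact Nat.le_of_dvd (by norm_num) (orderOf_dvd_of_pow_eq_one hx3)
    omega
  -- the generated group
  set N := closure S with hN
  have hNP : N ≤ P := ((Subgroup.closure_le P)).2 fun g hg => hg.1
  haveI : Group.IsNilpotent N := (hPp.to_le hNP).isNilpotent
  let σ : swpGroup L →* swpGroup L := (MulAut.conj h.base).toMonoidHom
  have hσS : ∀ g ∈ S, σ g = g⁻¹ := fun g hg => hg.2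
  have hodd : ∀ g ∈ N, g⁻¹ = g → g = 1 := fun g hg e => by
    obtain ⟨j, hj⟩ := (IsPGroup.iff_orderOf.1 hPp) ⟨g, hNP hg⟩
    rw [Subgroup.orderOf_mk] at hj
    have h2 : orderOf g ∣ 2 := orderOf_dvd_of_pow_eq_one (by
      rw [pow_two]; calc g * g = g⁻¹ * g := by rw [e]
        _ = 1 := inv_mul_cancel g)
    exact orderOf_eq_one_iff.1 (Nat.eq_one_of_dvd_coprimes
      (Nat.Coprime.pow_left j (show Nat.Coprime 3 2 by norm_num)) hj.dvd h2)
  have hNσ : ∀ g ∈ N, σ g ∈ N := fun g hg => by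
    have : N ≤ N.comap σ := (Subgroup.closure_le _).2 fun x hx => by
      show σ x ∈ N
      rw [hσS x hx]; exact N.inv_mem (subset_closure hx)
    exact this hg
  have hcen : ∀ g ∈ N, (∀ x ∈ S, g * x = x * g) → ∀ y ∈ N, g * y = y * g := by
    intro g _ hx y hy
    have : N ≤ centralizer ({g} : Set (swpGroup L)) := (Subgroup.closure_le _).2 fun x hx' =>
      mem_centralizer_singleton_iff.2 (hx x hx').symm
    exact (mem_centralizer_singleton_iff.1 (this hy)).symm
  -- the centre is fixed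
  have hfix : ∀ g ∈ N, (∀ x ∈ S, g * x = x * g) → σ g = g := by
    intro g hg hgc
    by_contra hne
    set d := g⁻¹ * σ g with hd
    have hdN : d ∈ N := mul_mem (N.inv_mem hg) (hNσ g hg)
    have hσc : ∀ x ∈ S, σ g * x = x * σ g := by
      intro x hx
      have e := congrArg σ (hgc x hx)
      rw [map_mul, map_mul, hσS x hx] at e
      calc σ g * x = x * (x⁻¹ * σ g) * x := by group
        _ = x * (σ g * x⁻¹) * x := by rw [e]
        _ = x * σ g := by group
    have hdc : ∀ x ∈ S, d * x = x * d := by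
      intro x hx
      calc d * x = g⁻¹ * (σ g * x) := by rw [hd]; group
        _ = g⁻¹ * (x * g) * (g⁻¹ * σ g) := by rw [hσc x hx]; group
        _ = g⁻¹ * (g * x) * d := by rw [hgc x hx]
        _ = x * d := by group
    have hσσ : σ (σ g) = g := by
      have hb : h.base * h.base = 1 := Subtype.ext (swp_sq 1)
      show h.base * (h.base * g * h.base⁻¹) * h.base⁻¹ = g
      rw [show h.base * (h.base * g * h.base⁻¹) * h.base⁻¹ = h.base * h.base * g * (h.base * h.base)⁻¹ by group,
        hb, one_mul, inv_one, mul_one]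
    have hdσ : σ d = d⁻¹ := by
      rw [hd, map_mul, map_inv, hσσ, mul_inv_rev, inv_inv]
    have hdS : d ∈ S := ⟨hNP hdN, hdσ⟩
    have hd1 : d ≠ 1 := fun e => hne (by rw [hd, inv_mul_eq_one] at e; exact e.symm)
    obtain ⟨y, hy, hyn⟩ := hbig d hdS hd1
    exact hyn (hcomm d hdS y hy (hdc y hy) hd1)
  -- the second centre
  have hex : ∃ x ∈ S, ∃ w ∈ S, x * w ≠ w * x ∧ ∀ z ∈ S, ⁅x, w⁆ * z = z * ⁅x, w⁆ := by
    by_cases hab : ∀ x ∈ S, ∀ y ∈ S, x * y = y * x
    · exfalso
      obtain ⟨x, hx, hx1⟩ : ∃ x ∈ S, x ≠ 1 := by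
        by_contra hall
        push Not at hall
        haveI : Subsingleton {g : swpGroup L // g ∈ P ∧ h.base * g * h.base⁻¹ = g⁻¹} :=
          ⟨fun u v => Subtype.ext ((hall _ u.2).trans (hall _ v.2).symm)⟩
        have := Finite.card_le_one_iff_subsingleton.2 this
        omega
      obtain ⟨y, hy, hyn⟩ := hbig x hx hx1
      exact hyn (hcomm x hx y hy (hab x hx y hy) hx1)
    have hlt : Subgroup.upperCentralSeries N 1 ≠ ⊤ := by
      rw [Subgroup.upperCentralSeries_one]
      intro e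
      refine hab fun x hx y hy => ?_
      have := mem_center_iff.1 (e ▸ mem_top (⟨x, subset_closure hx⟩ : N)) ⟨y, subset_closure hy⟩
      exact (congrArg Subtype.val this).symm
    obtain ⟨c, hc⟩ := Group.IsNilpotent.nilpotent (G := N)
    have hne2 : Subgroup.upperCentralSeries N 2 ≠ Subgroup.upperCentralSeries N 1 := by
      intro e
      have hst : ∀ n, Subgroup.upperCentralSeries N (n + 1) = Subgroup.upperCentralSeries N 1 := by
        intro n
        induction n with
        | zero => rfl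
        | succ n ih =>
          ext z
          rw [Subgroup.mem_upperCentralSeries_succ_iff, ← e, Subgroup.mem_upperCentralSeries_succ_iff, ih]
      exact hlt (eq_top_iff.2 (hc ▸ (Subgroup.upperCentralSeries_mono N c.le_succ).trans (hst c).le))
    obtain ⟨w, hw2, hw1⟩ := SetLike.exists_of_lt
      (lt_of_le_of_ne (Subgroup.upperCentralSeries_mono N (by norm_num : 1 ≤ 2)) (Ne.symm hne2))
    have hmid : ∀ z : N, ∀ y ∈ S, ⁅(w : swpGroup L), (z : swpGroup L)⁆ * y = y * ⁅(w : swpGroup L), (z : swpGroup L)⁆ := by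
      intro z y hy
      have hm := Subgroup.mem_upperCentralSeries_succ_iff.1 hw2 z
      rw [Subgroup.upperCentralSeries_one] at hm
      have := congrArg Subtype.val (mem_center_iff.1 hm ⟨y, subset_closure hy⟩)
      simpa [commutatorElement_def] using this.symm
    rw [Subgroup.upperCentralSeries_one] at hw1
    -- a central commutator which is not trivial
    set d := (w : swpGroup L)⁻¹ * σ (w : swpGroup L) with hd
    have hdN : d ∈ N := mul_mem (N.inv_mem w.2) (hNσ _ w.2)
    have hσσ : σ (σ (w : swpGroup L)) = (w : swpGroup L) := by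
      have hb : h.base * h.base = 1 := Subtype.ext (swp_sq 1)
      show h.base * (h.base * (w : swpGroup L) * h.base⁻¹) * h.base⁻¹ = w
      rw [show h.base * (h.base * (w : swpGroup L) * h.base⁻¹) * h.base⁻¹ =
        h.base * h.base * w * (h.base * h.base)⁻¹ by group, hb, one_mul, inv_one, mul_one]
    have hdS : d ∈ S := ⟨hNP hdN, show σ d = d⁻¹ by rw [hd, map_mul, map_inv, hσσ, mul_inv_rev, inv_inv]⟩
    have hconj : ∀ y ∈ S, (w : swpGroup L)⁻¹ * y * w = y * ⁅(w : swpGroup L), y⁆⁻¹ := by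
      intro y hy
      set c := ⁅(w : swpGroup L), y⁆ with hc
      have hcw : c * w = w * c := hcen c (by
        rw [hc, commutatorElement_def]
        exact mul_mem (mul_mem (mul_mem w.2 (subset_closure hy)) (N.inv_mem w.2)) (N.inv_mem (subset_closure hy)))
        (hmid ⟨y, subset_closure hy⟩) w w.2
      have hcy : c * y = y * c := hmid ⟨y, subset_closure hy⟩ y hy
      calc (w : swpGroup L)⁻¹ * y * w = (w : swpGroup L)⁻¹ * (c⁻¹ * (w * y * (w : swpGroup L)⁻¹)) * w := by
            rw [hc, commutatorElement_def]; group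
        _ = ((w : swpGroup L)⁻¹ * c⁻¹ * w) * y := by group
        _ = c⁻¹ * y := by
            rw [mul_assoc ((w : swpGroup L)⁻¹) c⁻¹,
              (show Commute c (w : swpGroup L) from hcw).inv_left.eq, inv_mul_cancel_left]
        _ = y * c⁻¹ := by
            calc c⁻¹ * y = c⁻¹ * (y * c) * c⁻¹ := by group
              _ = y * c⁻¹ := by rw [← hcy]; group
    by_cases hd' : ∀ y ∈ S, d * y = y * d
    · exfalso
      by_cases hd1 : d = 1
      · -- `w` is fixed, hence central
        have hσw : σ (w : swpGroup L) = w := (inv_mul_eq_one.1 hd1).symm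
        refine hw1 (mem_center_iff.2 fun z => Subtype.ext ?_)
        refine (hcen w w.2 (fun y hy => ?_) z z.2).symm
        have hcN : ⁅(w : swpGroup L), y⁆ ∈ N := by
          rw [commutatorElement_def]
          exact mul_mem (mul_mem (mul_mem w.2 (subset_closure hy)) (N.inv_mem w.2)) (N.inv_mem (subset_closure hy))
        have h1 : σ ⁅(w : swpGroup L), y⁆ = ⁅(w : swpGroup L), y⁆⁻¹ := by
          rw [map_commutatorElement, hσw, hσS y hy]
          have e := hconj y hy
          have hcy := hmid ⟨y, subset_closure hy⟩ y hy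
          calc ⁅(w : swpGroup L), y⁻¹⁆ = y⁻¹ * ⁅(w : swpGroup L), y⁆⁻¹ * y := by
                simp only [commutatorElement_def]; group
            _ = _ := by
              simp only at hcy
              calc y⁻¹ * ⁅(w : swpGroup L), y⁆⁻¹ * y = y⁻¹ * (⁅(w : swpGroup L), y⁆⁻¹ * (y * ⁅(w : swpGroup L), y⁆)) * ⁅(w : swpGroup L), y⁆⁻¹ := by group
                _ = _ := by rw [← hcy]; group
        rw [hfix _ hcN (hmid ⟨y, subset_closure hy⟩)] at h1
        exact commutatorElement_eq_one_iff_mul_comm.1 (hodd _ hcN h1.symm)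
      · obtain ⟨y, hy, hyn⟩ := hbig d hdS hd1
        exact hyn (hcomm d hdS y hy (hd' y hy) hd1)
    push Not at hd'
    obtain ⟨y, hy, hdy⟩ := hd'
    refine ⟨d, hdS, y, hy, hdy, fun z hz => ?_⟩
    -- `d` is in the second centre
    have hd2 : (⟨d, hdN⟩ : N) ∈ Subgroup.upperCentralSeries N 2 := by
      refine Subgroup.mem_upperCentralSeries_succ_iff.2 fun t => ?_
      rw [Subgroup.upperCentralSeries_one, mem_center_iff]
      intro r
      refine Subtype.ext (Eq.symm ?_)
      refine hcen _ ?_ (fun q hq => ?_) r r.2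
      · exact SetLike.coe_mem _
      · show ⁅d, (t : swpGroup L)⁆ * q = q * ⁅d, (t : swpGroup L)⁆
        have hwc : ∀ a ∈ N, ⁅(w : swpGroup L), a⁆ ∈ centralizer S := fun a ha =>
          mem_centralizer_iff.2 fun b hb => (hmid ⟨a, ha⟩ b hb).symm
        have hσw : ∀ a ∈ N, ⁅σ (w : swpGroup L), a⁆ ∈ centralizer S := by
          intro a ha
          refine mem_centralizer_iff.2 fun b hb => ?_
          have e := congrArg σ (hmid ⟨σ a, hNσ a ha⟩ b hb)
          rw [map_mul, map_mul, map_commutatorElement, hσS b hb] at e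
          have hσσa : σ (σ a) = a := by
            have hb' : h.base * h.base = 1 := Subtype.ext (swp_sq 1)
            show h.base * (h.base * a * h.base⁻¹) * h.base⁻¹ = a
            rw [show h.base * (h.base * a * h.base⁻¹) * h.base⁻¹ =
              h.base * h.base * a * (h.base * h.base)⁻¹ by group, hb', one_mul, inv_one, mul_one]
          rw [hσσa] at e
          calc b * ⁅σ (w : swpGroup L), a⁆ = b * (⁅σ (w : swpGroup L), a⁆ * b⁻¹) * b := by group
            _ = b * (b⁻¹ * ⁅σ (w : swpGroup L), a⁆) * b := by rw [e]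
            _ = _ := by group
        have hmem : ⁅d, (t : swpGroup L)⁆ ∈ centralizer S := by
          have e : ⁅d, (t : swpGroup L)⁆ =
              (w : swpGroup L)⁻¹ * ⁅σ (w : swpGroup L), (t : swpGroup L)⁆ * w *
              ((w : swpGroup L)⁻¹ * ⁅(w : swpGroup L), (t : swpGroup L)⁆⁻¹ * w) := by
            rw [hd]; simp only [commutatorElement_def]; group
          have hk : ∀ c ∈ N, c ∈ centralizer S → (w : swpGroup L)⁻¹ * c * w = c := fun c hcN hc => by
            rw [mul_assoc, hcen c hcN (fun b hb => (mem_centralizer_iff.1 hc b hb).symm) w w.2,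
              inv_mul_cancel_left]
          have hin : ∀ a b : swpGroup L, a ∈ N → b ∈ N → ⁅a, b⁆ ∈ N := fun a b ha hb => by
            rw [commutatorElement_def]; exact mul_mem (mul_mem (mul_mem ha hb) (N.inv_mem ha)) (N.inv_mem hb)
          rw [e, hk _ (hin _ _ (hNσ _ w.2) t.2) (hσw _ t.2),
            hk _ (N.inv_mem (hin _ _ w.2 t.2)) ((centralizer S).inv_mem (hwc _ t.2))]
          exact mul_mem (hσw _ t.2) ((centralizer S).inv_mem (hwc _ t.2))
        exact (mem_centralizer_iff.1 hmem q hq).symm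
    have hm := Subgroup.mem_upperCentralSeries_succ_iff.1 hd2 ⟨y, subset_closure hy⟩
    rw [Subgroup.upperCentralSeries_one] at hm
    have := congrArg Subtype.val (mem_center_iff.1 hm ⟨z, subset_closure hz⟩)
    simpa [commutatorElement_def] using this.symm
  obtain ⟨x, hx, w, hw, hne, hcent⟩ := hex
  obtain ⟨b, hb, eb, hb3, -⟩ := hS x hx
  obtain ⟨c, hc, ec, hc3, -⟩ := hS w hw
  obtain ⟨_, hx3⟩ : True ∧ x ^ 3 = 1 := ⟨trivial, (hS x hx).choose_spec.2.2.2⟩
  set e : Rˣ := ⁅b, c⁆ with he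
  have hsnd : ∀ (g : swpGroup L) (u : Rˣ), (g : Equiv.Perm (R × R)) = swp 1 * swp u →
      ∀ r : R, ((g : Equiv.Perm (R × R)) (0, r)) = (0, (u : R) * r) := fun g u e r => by
    rw [e]; simp [Equiv.Perm.mul_apply, swp_apply]
  have hsnd' : ∀ (g : swpGroup L) (u : Rˣ), (g : Equiv.Perm (R × R)) = swp 1 * swp u →
      ∀ r : R, (((g⁻¹ : swpGroup L) : Equiv.Perm (R × R)) (0, r)) = (0, ((u⁻¹ : Rˣ) : R) * r) := fun g u e r => by
    rw [show ((g⁻¹ : swpGroup L) : Equiv.Perm (R × R)) = (g : Equiv.Perm (R × R))⁻¹ from rfl, e, mul_inv_rev,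
      swp_inv, swp_inv]
    simp [Equiv.Perm.mul_apply, swp_apply]
  have hcommR : ∀ (g : swpGroup L) (u : Rˣ), (g : Equiv.Perm (R × R)) = swp 1 * swp u →
      ⁅x, w⁆ * g = g * ⁅x, w⁆ → e * u = u * e := by
    intro g u eg hh
    have := congrArg Prod.snd (Equiv.Perm.ext_iff.1 (congrArg Subtype.val hh) (0, 1))
    simp only [commutatorElement_def, Subgroup.coe_mul, Equiv.Perm.mul_apply, hsnd _ _ eg, hsnd _ _ eb,
      hsnd _ _ ec, hsnd' _ _ eb, hsnd' _ _ ec, mul_one] at this
    refine Units.ext ?_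
    simpa [he, commutatorElement_def, mul_assoc] using this
  have heb := hcommR x b eb (hcent x hx)
  have hec := hcommR w c ec (hcent w hw)
  have he3 : e ^ 3 = 1 := by
    have h1 : b * c = e * (c * b) := by rw [he, commutatorElement_def]; group
    have hcu : Commute e c := hec
    have h4 : c⁻¹ * b * c = e * b := by
      calc c⁻¹ * b * c = c⁻¹ * (e * (c * b)) := by rw [mul_assoc, h1]
        _ = c⁻¹ * (e * c) * b := by group
        _ = _ := by rw [hcu.eq]; group
    have h5 : (c⁻¹ * b * c) ^ 3 = (e * b) ^ 3 := by rw [h4]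
    rw [show (e * b) ^ 3 = e ^ 3 * b ^ 3 from (show Commute e b from heb).mul_pow 3, hb3, mul_one,
      show (c⁻¹ * b * c) = c⁻¹ * b * (c⁻¹)⁻¹ by rw [inv_inv], conj_pow, hb3] at h5
    simpa using h5.symm
  have hval : ∀ u : Rˣ, u ^ 3 = 1 → ((u : R)) ^ 3 = 1 := fun u hu => by
    rw [← Units.val_pow_eq_pow_val, hu, Units.val_one]
  have hbc : b ≠ c := by
    intro e1
    exact hne (by rw [show x = w from Subtype.ext (by rw [eb, ec, e1])])
  have h1 := h.three_noncomm (c := (e : R)) hb hc (hval b hb3) (hval c hc3)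
    (by rw [← Units.val_mul, ← Units.val_mul, ← Units.val_mul]; congr 1; rw [he, commutatorElement_def]; group)
    (congrArg Units.val heb) (congrArg Units.val hec) (hval e he3)
    (fun e1 => hbc (Units.ext (by rw [← sub_eq_zero, h.sub_eq]; exact e1)))
  refine hne (Subtype.ext ?_)
  have hbcc : b * c = c * b := by
    rw [show b * c = e * (c * b) by rw [he, commutatorElement_def]; group,
      show e = 1 from Units.ext h1, one_mul]
  rw [Subgroup.coe_mul, Subgroup.coe_mul, eb, ec]
  have hf : ∀ u v : Rˣ, swp 1 * swp u * (swp 1 * swp v) = Equiv.prodCongr (Units.mulLeft (u⁻¹ * v⁻¹)) (Units.mulLeft (u * v)) :=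
    fun u v => by ext p <;> simp [Equiv.Perm.mul_apply, swp_apply, mul_assoc]
  rw [hf, hf, hbcc, ← mul_inv_rev, ← mul_inv_rev, hbcc]

/-- The group of units is a field. -/
theorem isField {k : ℕ} (hk : Nat.card L = 2 ^ k) : ∀ x ∈ L, ∀ y ∈ L, x * y ∈ L ∧ x * y = y * x := by
  rcases Nat.lt_or_ge k 2 with hk2 | hk2
  · exact h.of_generator hk h.one h.nz fun j hj hj' => by omega
  by_cases h6 : k = 6
  · subst h6
    obtain ⟨a, ha, ha0, h9⟩ := h.exists_nine hk
    refine h.of_generator hk ha ha0 fun j hj0 hj hd => ?_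
    have := h9.trans hd
    interval_cases j <;> norm_num at this
  obtain ⟨p, hp, hpd, hpp⟩ := CfsgLib.Char.Zsigmondy.exists_prim 2 k one_lt_two hk2
    (fun e => h6 e.2) (fun ⟨_, m, hm⟩ => by
      rcases m with _ | _ | m
      · simp at hm
      · simp at hm
      · have : 4 ≤ 2 ^ (m + 2) := by
          rw [pow_add]; have := Nat.one_le_two_pow (n := m); omega
        omega)
  haveI : Fact p.Prime := ⟨hp⟩
  have hp2 : p ≠ 2 := by
    rintro rfl
    have h1 := Nat.one_le_two_pow (n := k)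
    have h2 : 2 ∣ 2 ^ k := dvd_pow_self 2 (by omega)
    omega
  obtain ⟨a, ha, ha0, hpa⟩ := h.exists_order hk hp2 hpd
  exact h.of_generator hk ha ha0 fun j hj0 hj hd => hpp j hj0 hj (hpa.trans hd)

end InvClosed

end CfsgLib.Invol.TIPair
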