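import Cfsg.Prelude.Def_Transfer
import Mathlib.GroupTheory.PGroup
import Mathlib.GroupTheory.Nilpotent
import Mathlib.Tactic.Group

/-!
# Trivial-intersection elementary abelian `2`-subgroups with a normalizer of characteristic two

The basic hypothesis, the commutation lemma for two conjugates one of which normalizes the other, and
the fact that `P = Q ∩ C(V)` has class at most two with centre `V`.
-/

set_option autoImplicit false

namespace CfsgLib.Invol.TIPair

open Subgroup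
open scoped commutatorElement

variable {G : Type*} [Group G]

/-- The conjugate of a subgroup. -/
def cj (x : G) (K : Subgroup G) : Subgroup G := K.map (MulAut.conj x).toMonoidHom

theorem mem_cj {x w : G} {K : Subgroup G} : w ∈ cj x K ↔ x⁻¹ * w * x ∈ K := by
  rw [cj, mem_map_equiv, MulAut.conj_symm_apply]

theorem cj_mul (x y : G) (K : Subgroup G) : cj x (cj y K) = cj (x * y) K := by
  ext w; simp only [mem_cj, mul_inv_rev, mul_assoc]

theorem cj_one (K : Subgroup G) : cj 1 K = K := by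
  ext w; simp [mem_cj]

theorem cj_mono {x : G} {K L : Subgroup G} (h : K ≤ L) : cj x K ≤ cj x L := map_mono h

theorem conj_mem_cj {x w : G} {K : Subgroup G} (h : w ∈ K) : x * w * x⁻¹ ∈ cj x K :=
  mem_cj.2 (by simpa [mul_assoc] using h)

theorem card_cj (x : G) (K : Subgroup G) : Nat.card (cj x K) = Nat.card K :=
  card_map_of_injective (MulAut.conj x).injective

theorem cj_eq_self_iff [Finite G] {x : G} {K : Subgroup G} :
    cj x K = K ↔ x ∈ normalizer (K : Set G) := by
  rw [mem_normalizer_iff]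
  constructor
  · intro e a
    constructor
    · intro ha; rw [← e]; exact conj_mem_cj ha
    · intro ha
      rw [← e, mem_cj] at ha
      simpa [mul_assoc] using ha
  · intro h
    ext w
    rw [mem_cj, h (x⁻¹ * w * x), show x * (x⁻¹ * w * x) * x⁻¹ = w by group]

theorem mem_normalizer_of_le [Finite G] {x : G} {K : Subgroup G} (h : ∀ a ∈ K, x * a * x⁻¹ ∈ K) :
    x ∈ normalizer (K : Set G) :=
  cj_eq_self_iff.1 (eq_of_le_of_card_ge
    (fun w hw => by
      have := h _ (mem_cj.1 hw)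
      rwa [show x * (x⁻¹ * w * x) * x⁻¹ = w by group] at this)
    (card_cj x K).ge)

/-- The hypothesis on `V` and `Q`. -/
structure Hyp (V Q : Subgroup G) : Prop where
  elem : Cfsg.IsElementaryAbelian 2 V
  le : Q ≤ normalizer (V : Set G)
  nrm : ∀ m ∈ normalizer (V : Set G), ∀ a ∈ Q, m * a * m⁻¹ ∈ Q
  pgroup : IsPGroup 2 Q
  core : ∀ K : Subgroup G, K ≤ normalizer (V : Set G) → IsPGroup 2 K →
    (∀ m ∈ normalizer (V : Set G), ∀ a ∈ K, m * a * m⁻¹ ∈ K) → K ≤ Q
  self : ∀ x ∈ normalizer (V : Set G), (∀ a ∈ Q, x * a = a * x) → x ∈ Q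
  maxab : ∀ A : Subgroup G, V ≤ A → A ≤ normalizer (V : Set G) → (∀ a ∈ A, ∀ b ∈ A, a * b = b * a) →
    (∀ m ∈ normalizer (V : Set G), ∀ a ∈ A, m * a * m⁻¹ ∈ A) → A ≤ V
  ti : ∀ x y w : G, w ≠ 1 → w ∈ cj x V → w ∈ cj y V → cj x V = cj y V

namespace Hyp

variable {V Q : Subgroup G} (h : Hyp V Q)
include h

theorem sq {x v : G} (hv : v ∈ cj x V) : v * v = 1 := by
  have e := h.elem.2 _ (mem_cj.1 hv)
  rw [pow_two, show x⁻¹ * v * x * (x⁻¹ * v * x) = x⁻¹ * (v * v) * x by group] at e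
  calc v * v = x * (x⁻¹ * (v * v) * x) * x⁻¹ := by group
    _ = 1 := by rw [e]; group

theorem inv_eq {x v : G} (hv : v ∈ cj x V) : v⁻¹ = v := inv_eq_of_mul_eq_one_right (h.sq hv)

theorem comm {x v w : G} (hv : v ∈ cj x V) (hw : w ∈ cj x V) : v * w = w * v := by
  calc v * w = (v * w)⁻¹ := (h.inv_eq (mul_mem hv hw)).symm
    _ = w * v := by rw [mul_inv_rev, h.inv_eq hv, h.inv_eq hw]

theorem sq' {v : G} (hv : v ∈ V) : v * v = 1 := h.sq (x := 1) (by rwa [cj_one])

theorem inv_eq' {v : G} (hv : v ∈ V) : v⁻¹ = v := inv_eq_of_mul_eq_one_right (h.sq' hv)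

theorem comm' {v w : G} (hv : v ∈ V) (hw : w ∈ V) : v * w = w * v :=
  h.comm (x := 1) (by rwa [cj_one]) (by rwa [cj_one])

/-- What commutes with a nontrivial element of a conjugate normalizes it. -/
theorem cj_eq_of_commute {x c w : G} (hw : w ∈ cj x V) (hw1 : w ≠ 1) (hc : c * w = w * c) :
    cj (c * x) V = cj x V := by
  refine h.ti _ _ w hw1 ?_ hw
  rw [← cj_mul, mem_cj, show c⁻¹ * w * c = w by rw [mul_assoc, ← hc, inv_mul_cancel_left]]
  exact hw

theorem conj_mem_of_commute {x c w a : G} (hw : w ∈ cj x V) (hw1 : w ≠ 1) (hc : c * w = w * c)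
    (ha : a ∈ cj x V) : c * a * c⁻¹ ∈ cj x V := by
  rw [← h.cj_eq_of_commute hw hw1 hc, ← cj_mul]
  exact conj_mem_cj ha

variable [Finite G]

/-- A conjugate normalizing another one centralizes it. -/
theorem commute_of_normalizes {a b : G} (hn : ∀ u ∈ cj b V, ∀ v ∈ cj a V, u * v * u⁻¹ ∈ cj a V)
    (hne : cj a V ≠ cj b V) : ∀ u ∈ cj b V, ∀ v ∈ cj a V, u * v = v * u := by
  have hdisj : ∀ w, w ∈ cj a V → w ∈ cj b V → w = 1 := fun w h1 h2 =>
    by_contra fun h0 => hne (h.ti _ _ w h0 h1 h2)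
  have hcom : ∀ u ∈ cj b V, ∀ v ∈ cj a V, u * v * u * v ∈ cj a V := fun u hu v hv => by
    have := mul_mem (hn u hu v hv) hv
    rwa [h.inv_eq hu] at this
  -- an element of `cj a V` commuting with one nontrivial element commutes with all
  have hall : ∀ u ∈ cj b V, u ≠ 1 → ∀ v ∈ cj a V, u * v = v * u → ∀ u' ∈ cj b V, u' * v = v * u' := by
    intro u hu hu1 v hv hc u' hu'
    have h1 : v * u' * v⁻¹ ∈ cj b V := h.conj_mem_of_commute hu hu1 hc.symm hu'
    rw [h.inv_eq hv] at h1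
    have e := hdisj _ (hcom u' hu' v hv) (by
      have := mul_mem hu' h1
      simpa [mul_assoc] using this)
    calc u' * v = (u' * v * u' * v) * (v⁻¹ * u'⁻¹) := by group
      _ = v * u' := by rw [e, one_mul, h.inv_eq hv, h.inv_eq hu']
  by_contra hnc
  push Not at hnc
  obtain ⟨u₀, hu₀, v, hv, huv⟩ := hnc
  let V0 : Subgroup G := cj a V ⊓ centralizer ((cj b V : Subgroup G) : Set G)
  have hV0 : ∀ w ∈ V0, ∀ u ∈ cj b V, u * w = w * u := fun w hw u hu =>
    mem_centralizer_iff.1 hw.2 u hu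
  have hvnot : v ∉ V0 := fun hm => huv (hV0 v hm u₀ hu₀)
  have hc0 : ∀ u ∈ cj b V, u * v * u * v ∈ V0 := by
    intro u hu
    refine ⟨hcom u hu v hv, mem_centralizer_iff.2 fun u' hu' => ?_⟩
    by_cases hu1 : u = 1
    · subst hu1
      rw [one_mul, mul_one, h.sq hv, mul_one, one_mul]
    refine hall u hu hu1 _ (hcom u hu v hv) ?_ u' hu'
    have hci := h.inv_eq (hcom u hu v hv)
    rw [mul_inv_rev, mul_inv_rev, mul_inv_rev, h.inv_eq hu, h.inv_eq hv] at hci
    calc u * (u * v * u * v) = (u * u) * (v * u * v) := by group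
      _ = v * u * v * (u * u) := by rw [h.sq hu, one_mul, mul_one]
      _ = v * (u * (v * u)) * u := by group
      _ = (u * v * u * v) * u := by rw [hci]
  let c : cj b V →* V0 := MonoidHom.mk' (fun u => ⟨u.1 * v * u.1 * v, hc0 u.1 u.2⟩) fun u u' =>
    Subtype.ext (by
      show (u : G) * u' * v * ((u : G) * u') * v = (u : G) * v * u * v * ((u' : G) * v * u' * v)
      have e := hV0 _ (hc0 u.1 u.2) u'.1 u'.2
      calc (u : G) * u' * v * ((u : G) * u') * v
          = (u' : G) * u * v * ((u : G) * u') * v := by rw [h.comm u.2 u'.2]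
        _ = (u' : G) * ((u : G) * v * u * v) * v⁻¹ * u' * v := by group
        _ = ((u : G) * v * u * v) * u' * v⁻¹ * u' * v := by rw [e]
        _ = _ := by rw [h.inv_eq hv]; group)
  have hinj : Function.Injective c := by
    rw [← MonoidHom.ker_eq_bot_iff, eq_bot_iff]
    intro u hu
    have e : (u : G) * v * u * v = 1 := congrArg Subtype.val (MonoidHom.mem_ker.1 hu)
    refine mem_bot.2 (Subtype.ext (by_contra fun hu1 => huv ?_))
    refine hall u u.2 hu1 v hv ?_ u₀ hu₀
    calc (u : G) * v = ((u : G) * v * u * v) * (v⁻¹ * (u : G)⁻¹) := by group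
      _ = v * u := by rw [e, one_mul, h.inv_eq hv, h.inv_eq u.2]
  have h1 := Nat.card_le_card_of_injective c hinj
  rw [card_cj, ← card_cj a V] at h1
  have heq : V0 = cj a V := eq_of_le_of_card_ge inf_le_left h1
  exact hvnot (heq ▸ hv)

theorem V_le : V ≤ Q := by
  refine h.core V le_normalizer ?_ fun m hm a ha => (mem_normalizer_iff.1 hm a).1 ha
  exact fun v => ⟨1, Subtype.ext (by simpa [pow_two] using h.sq' v.2)⟩

omit [Finite G] in
/-- The group `P`. -/
theorem nrm_P {m a : G} (hm : m ∈ normalizer (V : Set G)) (ha : a ∈ Q ⊓ centralizer (V : Set G)) :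
    m * a * m⁻¹ ∈ Q ⊓ centralizer (V : Set G) := by
  refine ⟨h.nrm m hm a ha.1, mem_centralizer_iff.2 fun v hv => ?_⟩
  have hv' : m⁻¹ * v * m ∈ V := by
    have := (mem_normalizer_iff.1 (inv_mem hm) v).1 hv
    rwa [inv_inv] at this
  have e := mem_centralizer_iff.1 ha.2 _ hv'
  calc v * (m * a * m⁻¹) = m * ((m⁻¹ * v * m) * a) * m⁻¹ := by group
    _ = m * (a * (m⁻¹ * v * m)) * m⁻¹ := by rw [e]
    _ = m * a * m⁻¹ * v := by group

theorem V_le_P : V ≤ Q ⊓ centralizer (V : Set G) := fun _v hv =>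
  ⟨h.V_le hv, mem_centralizer_iff.2 fun _w hw => h.comm' hw hv⟩

theorem center_le {x : G} (hx : x ∈ Q ⊓ centralizer (V : Set G))
    (hc : ∀ a ∈ Q ⊓ centralizer (V : Set G), x * a = a * x) : x ∈ V := by
  let A : Subgroup G := (Q ⊓ centralizer (V : Set G)) ⊓
    centralizer ((Q ⊓ centralizer (V : Set G) : Subgroup G) : Set G)
  refine h.maxab A (fun v hv => ⟨h.V_le_P hv, mem_centralizer_iff.2 fun a ha =>
    (mem_centralizer_iff.1 ha.2 v hv).symm⟩) (fun a ha => h.le ha.1.1)
    (fun a ha b hb => (mem_centralizer_iff.1 ha.2 b hb.1).symm)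
    (fun m hm a ha => ⟨h.nrm_P hm ha.1, mem_centralizer_iff.2 fun b hb => ?_⟩)
    ⟨hx, mem_centralizer_iff.2 fun a ha => (hc a ha).symm⟩
  have hb' := h.nrm_P (inv_mem hm) hb
  rw [inv_inv] at hb'
  have e := mem_centralizer_iff.1 ha.2 _ hb'
  calc b * (m * a * m⁻¹) = m * ((m⁻¹ * b * m) * a) * m⁻¹ := by group
    _ = m * (a * (m⁻¹ * b * m)) * m⁻¹ := by rw [e]
    _ = m * a * m⁻¹ * b := by group

omit [Finite G] in
theorem P_comm_V {a v : G} (ha : a ∈ Q ⊓ centralizer (V : Set G)) (hv : v ∈ V) : a * v = v * a :=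
  (mem_centralizer_iff.1 ha.2 v hv).symm

/-- `P` has class at most two. -/
theorem comm_mem {a b : G} (ha : a ∈ Q ⊓ centralizer (V : Set G)) (hb : b ∈ Q ⊓ centralizer (V : Set G)) :
    ⁅a, b⁆ ∈ V := by
  classical
  set P := Q ⊓ centralizer (V : Set G) with hP
  haveI : Group.IsNilpotent P := (h.pgroup.to_le inf_le_left).isNilpotent
  obtain ⟨c, hc⟩ := _root_.nilpotent_iff_lowerCentralSeries.1 (inferInstance : Group.IsNilpotent P)
  have hcen : ∀ y : P, y ∈ center P ↔ (y : G) ∈ V := fun y =>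
    ⟨fun hy => h.center_le y.2 fun x hx => (congrArg Subtype.val (mem_center_iff.1 hy ⟨x, hx⟩)).symm,
      fun hy => mem_center_iff.2 fun x => Subtype.ext (h.P_comm_V x.2 hy)⟩
  have hex : ∃ n, (⊤ : Subgroup P).lowerCentralSeries (n + 1) ≤ center P :=
    ⟨c, le_trans (Subgroup.lowerCentralSeries_antitone _ c.le_succ) (hc ▸ bot_le)⟩
  let n := Nat.find hex
  have hn : (⊤ : Subgroup P).lowerCentralSeries (n + 1) ≤ center P := Nat.find_spec hex
  rcases Nat.eq_zero_or_pos n with h0 | hpos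
  · rw [h0] at hn
    exact (hcen ⁅⟨a, ha⟩, ⟨b, hb⟩⁆).1 (hn (commutator_mem_commutator (mem_top _) (mem_top _)))
  exfalso
  obtain ⟨j, hj⟩ := Nat.exists_eq_succ_of_ne_zero hpos.ne'
  have hnot := Nat.find_min hex (show j < n by omega)
  obtain ⟨y, hy, hyc⟩ := SetLike.not_le_iff_exists.1 hnot
  -- the second centre
  let Z2 : Subgroup G :=
    { carrier := {y | y ∈ P ∧ ∀ x ∈ P, ⁅y, x⁆ ∈ V}
      one_mem' := ⟨one_mem _, fun x _ => by rw [commutatorElement_one_left]; exact one_mem _⟩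
      mul_mem' := by
        rintro s t ⟨hs, hs'⟩ ⟨ht, ht'⟩
        refine ⟨mul_mem hs ht, fun x hx => ?_⟩
        rw [show ⁅s * t, x⁆ = s * ⁅t, x⁆ * s⁻¹ * ⁅s, x⁆ by simp only [commutatorElement_def]; group,
          h.P_comm_V hs (ht' x hx), mul_inv_cancel_right]
        exact mul_mem (ht' x hx) (hs' x hx)
      inv_mem' := by
        rintro s ⟨hs, hs'⟩
        refine ⟨inv_mem hs, fun x hx => ?_⟩
        rw [show ⁅s⁻¹, x⁆ = s⁻¹ * ⁅s, x⁆⁻¹ * s by simp only [commutatorElement_def]; group,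
          mul_assoc, ← h.P_comm_V hs (inv_mem (hs' x hx)), inv_mul_cancel_left]
        exact inv_mem (hs' x hx) }
  -- elements of the second centre centralize commutators
  have hkey : ∀ s ∈ Z2, ∀ d ∈ ⁅P, P⁆, s * d = d * s := by
    intro s hs d hd
    have : ⁅P, P⁆ ≤ centralizer ({s} : Set G) := by
      rw [Subgroup.commutator_le]
      intro p hp r hr
      refine mem_centralizer_singleton_iff.2 ?_
      let φ : P →* V := MonoidHom.mk' (fun x => ⟨⁅s, (x : G)⁆, hs.2 x x.2⟩) fun x y => Subtype.ext (by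
        show ⁅s, (x : G) * y⁆ = ⁅s, (x : G)⁆ * ⁅s, (y : G)⁆
        rw [show ⁅s, (x : G) * y⁆ = ⁅s, (x : G)⁆ * ((x : G) * ⁅s, (y : G)⁆ * (x : G)⁻¹) by
          simp only [commutatorElement_def]; group, h.P_comm_V x.2 (hs.2 y y.2), mul_inv_cancel_right])
      have e : φ ⁅(⟨p, hp⟩ : P), (⟨r, hr⟩ : P)⁆ = 1 := by
        rw [map_commutatorElement]
        exact commutatorElement_eq_one_iff_mul_comm.2 (Subtype.ext (h.comm' (φ _).2 (φ _).2))
      have e' : ⁅s, ⁅p, r⁆⁆ = 1 := congrArg Subtype.val e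
      exact (commutatorElement_eq_one_iff_mul_comm.1 e').symm
    exact (mem_centralizer_singleton_iff.1 (this hd)).symm
  let A : Subgroup G := (⁅P, P⁆ ⊓ Z2) ⊔ V
  have hDP : ⁅P, P⁆ ≤ P := Subgroup.commutator_le_self P
  have hA1 : ∀ s ∈ ⁅P, P⁆ ⊓ Z2, ∀ t ∈ ⁅P, P⁆ ⊓ Z2, s * t = t * s := fun s hs t ht => hkey s hs.2 t ht.1
  have hAP : A ≤ P := sup_le (inf_le_left.trans hDP) h.V_le_P
  have hAab : ∀ s ∈ A, ∀ t ∈ A, s * t = t * s := by
    have hA' : A ≤ centralizer ((A : Subgroup G) : Set G) := by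
      refine sup_le (fun s hs => ?_) (fun v hv => mem_centralizer_iff.2 fun x hx => h.P_comm_V (hAP hx) hv)
      have : A ≤ centralizer ({s} : Set G) := sup_le
        (fun t ht => mem_centralizer_singleton_iff.2 (hA1 t ht s hs))
        (fun v hv => mem_centralizer_singleton_iff.2 (h.P_comm_V (hDP hs.1) hv).symm)
      exact mem_centralizer_iff.2 fun x hx => mem_centralizer_singleton_iff.1 (this hx)
    exact fun s hs t ht => mem_centralizer_iff.1 (hA' ht) s hs
  have hAn : ∀ m ∈ normalizer (V : Set G), ∀ s ∈ A, m * s * m⁻¹ ∈ A := by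
    intro m hm s hs
    have hmP : P.map (MulAut.conj m).toMonoidHom = P := cj_eq_self_iff.2
      (mem_normalizer_of_le fun x hx => h.nrm_P hm hx)
    have : A.map (MulAut.conj m).toMonoidHom ≤ A := by
      rw [Subgroup.map_sup]
      refine sup_le_sup ?_ ?_
      · rintro _ ⟨t, ⟨ht1, ht2⟩, rfl⟩
        refine ⟨?_, h.nrm_P hm ht2.1, fun x hx => ?_⟩
        · have := mem_map_of_mem (MulAut.conj m).toMonoidHom ht1
          rwa [Subgroup.map_commutator, hmP] at this
        · have hx' := h.nrm_P (inv_mem hm) hx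
          rw [inv_inv] at hx'
          have := (mem_normalizer_iff.1 hm _).1 (ht2.2 _ hx')
          convert this using 1
          simp only [MulEquiv.coe_toMonoidHom, MulAut.conj_apply, commutatorElement_def]; group
      · rintro _ ⟨v, hv, rfl⟩; exact (mem_normalizer_iff.1 hm v).1 hv
    exact this ⟨s, hs, rfl⟩
  refine hyc ((hcen y).2 (h.maxab A le_sup_right (hAP.trans (inf_le_left.trans h.le)) hAab hAn
    (mem_sup_left ⟨?_, y.2, fun x hx => ?_⟩)))
  · have h1 : (⊤ : Subgroup P).lowerCentralSeries (j + 1) ≤ commutator P :=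
      le_trans (Subgroup.lowerCentralSeries_antitone _ (Nat.le_add_left 1 j)) le_rfl
    have := mem_map_of_mem P.subtype (h1 hy)
    rwa [map_subtype_commutator] at this
  · refine (hcen ⁅y, ⟨x, hx⟩⁆).1 (hn ?_)
    rw [hj]
    exact commutator_mem_commutator hy (mem_top _)

theorem sq_mem {a : G} (ha : a ∈ Q ⊓ centralizer (V : Set G)) : a * a ∈ V := by
  refine h.center_le (mul_mem ha ha) fun b hb => commutatorElement_eq_one_iff_mul_comm.1 ?_
  have hc := h.comm_mem ha hb
  rw [show ⁅a * a, b⁆ = a * ⁅a, b⁆ * a⁻¹ * ⁅a, b⁆ by simp only [commutatorElement_def]; group,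
    h.P_comm_V ha hc, mul_inv_cancel_right, h.sq' hc]

theorem comm_mul_left {a b c : G} (ha : a ∈ Q ⊓ centralizer (V : Set G))
    (hb : b ∈ Q ⊓ centralizer (V : Set G)) (hc : c ∈ Q ⊓ centralizer (V : Set G)) :
    ⁅a * b, c⁆ = ⁅a, c⁆ * ⁅b, c⁆ := by
  rw [show ⁅a * b, c⁆ = a * ⁅b, c⁆ * a⁻¹ * ⁅a, c⁆ by simp only [commutatorElement_def]; group,
    h.P_comm_V ha (h.comm_mem hb hc), mul_inv_cancel_right, h.comm' (h.comm_mem hb hc) (h.comm_mem ha hc)]

theorem comm_symm {a b : G} (ha : a ∈ Q ⊓ centralizer (V : Set G))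
    (hb : b ∈ Q ⊓ centralizer (V : Set G)) : ⁅a, b⁆ = ⁅b, a⁆ := by
  rw [← commutatorElement_inv, h.inv_eq' (h.comm_mem hb ha)]

theorem comm_mul_right {a b c : G} (ha : a ∈ Q ⊓ centralizer (V : Set G))
    (hb : b ∈ Q ⊓ centralizer (V : Set G)) (hc : c ∈ Q ⊓ centralizer (V : Set G)) :
    ⁅a, b * c⁆ = ⁅a, b⁆ * ⁅a, c⁆ := by
  rw [h.comm_symm ha (mul_mem hb hc), h.comm_mul_left hb hc ha, h.comm_symm hb ha, h.comm_symm hc ha]

omit [Finite G] in
theorem conj (x : G) : Hyp (cj x V) (cj x Q) where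
  elem := by
    refine ⟨⟨⟨fun a b => Subtype.ext (h.comm a.2 b.2)⟩⟩, fun a ha => ?_⟩
    rw [pow_two]; exact h.sq ha
  le := fun a ha => by
    refine mem_normalizer_iff.2 fun b => ?_
    rw [mem_cj, mem_cj, mem_normalizer_iff.1 (h.le (mem_cj.1 ha)) (x⁻¹ * b * x)]
    simp [mul_assoc]
  nrm := fun m hm a ha => by
    have hm' : x⁻¹ * m * x ∈ normalizer (V : Set G) := mem_normalizer_iff.2 fun b => by
      have := mem_normalizer_iff.1 hm (x * b * x⁻¹)
      simpa [mem_cj, mul_assoc] using this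
    rw [mem_cj]
    have := h.nrm _ hm' _ (mem_cj.1 ha)
    simpa [mul_assoc] using this
  pgroup := h.pgroup.map _
  core := fun K hKle hK hKn => by
    have hloc : ∀ b, b ∈ normalizer (V : Set G) → x * b * x⁻¹ ∈ normalizer ((cj x V : Subgroup G) : Set G) :=
      fun b hb => mem_normalizer_iff.2 fun a => by
        rw [mem_cj, mem_cj, mem_normalizer_iff.1 hb (x⁻¹ * a * x)]
        simp [mul_assoc]
    have h1 : cj x⁻¹ K ≤ Q := by
      refine h.core _ (fun a ha => ?_) (hK.map _) (fun m hm a ha => ?_)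
      · have := hKle (mem_cj.1 ha)
        refine mem_normalizer_iff.2 fun b => ?_
        have e := mem_normalizer_iff.1 this (x * b * x⁻¹)
        simpa [mem_cj, mul_assoc] using e
      · rw [mem_cj] at ha ⊢
        have := hKn _ (hloc m hm) _ ha
        simpa [mul_assoc] using this
    intro a ha
    rw [mem_cj]
    exact h1 (mem_cj.2 (by simpa [mul_assoc] using ha))
  self := fun m hm hc => by
    have hm' : x⁻¹ * m * x ∈ normalizer (V : Set G) := mem_normalizer_iff.2 fun b => by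
      have := mem_normalizer_iff.1 hm (x * b * x⁻¹)
      simpa [mem_cj, mul_assoc] using this
    rw [mem_cj]
    refine h.self _ hm' fun a ha => ?_
    have e := hc (x * a * x⁻¹) (conj_mem_cj ha)
    calc x⁻¹ * m * x * a = x⁻¹ * (m * (x * a * x⁻¹)) * x := by group
      _ = x⁻¹ * (x * a * x⁻¹ * m) * x := by rw [e]
      _ = a * (x⁻¹ * m * x) := by group
  maxab := fun A hVA hAle hAc hAn a ha => by
    have hloc : ∀ b, b ∈ normalizer (V : Set G) → x * b * x⁻¹ ∈ normalizer ((cj x V : Subgroup G) : Set G) :=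
      fun b hb => mem_normalizer_iff.2 fun a => by
        rw [mem_cj, mem_cj, mem_normalizer_iff.1 hb (x⁻¹ * a * x)]
        simp [mul_assoc]
    rw [mem_cj]
    refine h.maxab (cj x⁻¹ A) (fun v hv => ?_) (fun b hb => ?_) (fun b hb c hc => ?_)
      (fun m hm b hb => ?_) (mem_cj.2 (by simpa [mul_assoc] using ha))
    · rw [mem_cj]; simpa [mul_assoc] using hVA (conj_mem_cj hv)
    · refine mem_normalizer_iff.2 fun c => ?_
      have e := mem_normalizer_iff.1 (hAle (mem_cj.1 hb)) (x * c * x⁻¹)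
      simpa [mem_cj, mul_assoc] using e
    · rw [mem_cj] at hb hc
      have e := hAc _ hb _ hc
      simp only [inv_inv] at e
      calc b * c = x⁻¹ * (x * b * x⁻¹ * (x * c * x⁻¹)) * x := by group
        _ = x⁻¹ * (x * c * x⁻¹ * (x * b * x⁻¹)) * x := by rw [e]
        _ = c * b := by group
    · rw [mem_cj] at hb ⊢
      have := hAn _ (hloc m hm) _ hb
      simpa [mul_assoc] using this
  ti := fun a b w hw h1 h2 => by
    simp only [cj_mul] at h1 h2 ⊢
    exact h.ti _ _ w hw h1 h2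

end Hyp

end CfsgLib.Invol.TIPair
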