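import Mathlib.FieldTheory.Finite.Basic
import Mathlib.RingTheory.IntegralDomain
import Mathlib.RingTheory.LittleWedderburn
import Mathlib.Algebra.Group.Subgroup.Finite
import Mathlib.Algebra.Ring.Subring.Basic
import Mathlib.Tactic.NoncommRing
import Mathlib.Tactic.Group

/-!
# An inverse-closed additive group of units in characteristic two

Closure under `a b a`, the fields generated by single elements, and the two lemmas on elements of
order three.
-/

set_option autoImplicit false

namespace CfsgLib.Invol.TIPair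

variable {R : Type*} [Ring R]

/-- An additive group of units of exponent two containing `1` and closed under inversion. -/
structure InvClosed (L : AddSubgroup R) : Prop where
  one : (1 : R) ∈ L
  nz : (1 : R) ≠ 0
  two : (1 : R) + 1 = 0
  inv : ∀ a ∈ L, a ≠ 0 → ∃ b ∈ L, a * b = 1 ∧ b * a = 1

namespace InvClosed

variable {L : AddSubgroup R} (h : InvClosed L)
include h

theorem add_self (x : R) : x + x = 0 := by
  calc x + x = (1 + 1) * x := by rw [add_mul, one_mul]
    _ = 0 := by rw [h.two, zero_mul]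

theorem sub_eq (x y : R) : x - y = x + y := by
  calc x - y = x - y + (y + y) := by rw [h.add_self, add_zero]
    _ = x + y := by abel

theorem neg_eq (x : R) : -x = x := by
  rw [← zero_sub, h.sub_eq, zero_add]

theorem eq_zero {a x : R} (ha : a ∈ L) (ha0 : a ≠ 0) (e : a * x = 0) : x = 0 := by
  obtain ⟨b, -, -, hba⟩ := h.inv a ha ha0
  calc x = b * a * x := by rw [hba, one_mul]
    _ = 0 := by rw [mul_assoc, e, mul_zero]

/-- Hua's identity. -/
theorem quad {a b : R} (ha : a ∈ L) (hb : b ∈ L) : a * b * a ∈ L := by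
  by_cases ha0 : a = 0
  · simp [ha0, L.zero_mem]
  by_cases hb0 : b = 0
  · simp [hb0, L.zero_mem]
  obtain ⟨a', ha', haa', ha'a⟩ := h.inv a ha ha0
  obtain ⟨b', hb', hbb', hb'b⟩ := h.inv b hb hb0
  by_cases hc0 : b' - a = 0
  · rw [← sub_eq_zero.1 hc0, hb'b, one_mul]; exact hb'
  obtain ⟨c', hc', -, hc'c⟩ := h.inv _ (L.sub_mem hb' ha) hc0
  have hkey : (a' + c') * (a - a * b * a) = 1 := by
    have e : (b' - a) * (b * a) = a - a * b * a := by
      rw [sub_mul, ← mul_assoc, hb'b, one_mul, mul_assoc a b a]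
    have e2 : c' * (a - a * b * a) = b * a := by rw [← e, ← mul_assoc, hc'c, one_mul]
    rw [add_mul, e2, mul_sub, ha'a, ← mul_assoc a', ← mul_assoc a', ha'a, one_mul, sub_add_cancel]
  have he0 : a' + c' ≠ 0 := fun e => h.nz (by rw [← hkey, e, zero_mul])
  obtain ⟨e', he', -, he'e⟩ := h.inv _ (L.add_mem ha' hc') he0
  have : a - a * b * a = e' := by
    calc a - a * b * a = e' * (a' + c') * (a - a * b * a) := by rw [he'e, one_mul]
      _ = e' := by rw [mul_assoc, hkey, mul_one]
  have h2 : a * b * a = a - e' := by rw [← this, sub_sub_cancel]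
  rw [h2]; exact L.sub_mem ha he'

theorem pow_mem {a : R} (ha : a ∈ L) : ∀ n : ℕ, a ^ n ∈ L
  | 0 => by rw [pow_zero]; exact h.one
  | 1 => by rwa [pow_one]
  | n + 2 => by
    rw [show a ^ (n + 2) = a * a ^ n * a by rw [pow_succ, pow_succ']]
    exact h.quad ha (pow_mem ha n)

theorem sq_eq_one {a : R} (ha : a ∈ L) (e : a * a = 1) : a = 1 := by
  by_contra hne
  have h1 : a + 1 ≠ 0 := fun e1 => hne (by
    calc a = a + 1 + 1 := by rw [add_assoc, h.two, add_zero]
      _ = 1 := by rw [e1, zero_add])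
  refine h1 (h.eq_zero (L.add_mem ha h.one) h1 ?_)
  calc (a + 1) * (a + 1) = a * a + (a + a) + 1 := by noncomm_ring
    _ = 0 := by rw [e, h.add_self, add_zero, h.two]

theorem pow_ne_zero {a : R} (ha : a ∈ L) (ha0 : a ≠ 0) : ∀ n : ℕ, a ^ n ≠ 0
  | 0 => by rw [pow_zero]; exact h.nz
  | n + 1 => fun e => pow_ne_zero ha ha0 n (h.eq_zero ha ha0 (by rwa [← pow_succ']))

variable [Finite R]

theorem orderOf_pos' {a : R} (ha : a ∈ L) (ha0 : a ≠ 0) : 0 < orderOf a := by
  obtain ⟨b, -, hab, hba⟩ := h.inv a ha ha0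
  rw [show a = ((⟨a, b, hab, hba⟩ : Rˣ) : R) from rfl, orderOf_units]
  exact orderOf_pos _

theorem odd_orderOf {a : R} (ha : a ∈ L) (ha0 : a ≠ 0) : Odd (orderOf a) := by
  by_contra hne
  obtain ⟨m, hm⟩ := Nat.not_odd_iff_even.1 hne
  have hpos := h.orderOf_pos' ha ha0
  have e := h.sq_eq_one (h.pow_mem ha m) (by rw [← pow_add, ← hm, pow_orderOf_eq_one])
  have := Nat.le_of_dvd (by omega) (orderOf_dvd_of_pow_eq_one e)
  omega

theorem exists_sqrt {a : R} (ha : a ∈ L) (ha0 : a ≠ 0) : ∃ s ∈ L, s ≠ 0 ∧ s * s = a := by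
  obtain ⟨m, hm⟩ := h.odd_orderOf ha ha0
  refine ⟨a ^ (m + 1), h.pow_mem ha _, h.pow_ne_zero ha ha0 _, ?_⟩
  rw [← pow_add, show m + 1 + (m + 1) = orderOf a + 1 by omega, pow_succ, pow_orderOf_eq_one, one_mul]

/-- The subring generated by one element lies inside. -/
theorem closure_le {a : R} (ha : a ∈ L) {y : R} (hy : y ∈ Subring.closure ({a} : Set R)) : y ∈ L := by
  rw [Subring.mem_closure_iff] at hy
  refine (AddSubgroup.closure_le L).2 ?_ hy
  intro x hx
  obtain ⟨n, rfl⟩ := Submonoid.mem_closure_singleton.1 hx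
  exact h.pow_mem ha n

/-- Its order, and the order of the generator. -/
theorem exists_card {k : ℕ} (hk : Nat.card L = 2 ^ k) {a : R} (ha : a ∈ L) (ha0 : a ≠ 0) :
    ∃ j, j ≤ k ∧ Nat.card (Subring.closure ({a} : Set R)) = 2 ^ j ∧ orderOf a ∣ 2 ^ j - 1 := by
  classical
  set K := Subring.closure ({a} : Set R)
  letI : CommRing K := Subring.closureCommRingOfComm (by
    rintro x rfl y rfl; rfl)
  haveI : Nontrivial K := ⟨⟨1, 0, fun e => h.nz (congrArg Subtype.val e)⟩⟩
  haveI : NoZeroDivisors K := ⟨fun {x y} e => by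
    by_contra hne
    rw [not_or] at hne
    exact hne.2 (Subtype.ext (h.eq_zero (h.closure_le ha x.2) (fun e1 => hne.1 (Subtype.ext e1))
      (congrArg Subtype.val e)))⟩
  haveI : IsDomain K := NoZeroDivisors.to_isDomain K
  letI : Field K := (Finite.isDomain_to_isField K).toField
  letI : Fintype K := Fintype.ofFinite K
  have hle : K.toAddSubgroup ≤ L := fun y hy => h.closure_le ha hy
  have hdvd : Nat.card K ∣ 2 ^ k := hk ▸ AddSubgroup.card_dvd_of_le hle
  obtain ⟨j, hj, e⟩ := (Nat.dvd_prime_pow Nat.prime_two).1 hdvd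
  refine ⟨j, hj, e, ?_⟩
  have haK : a ∈ K := Subring.subset_closure rfl
  have h1 := FiniteField.pow_card_sub_one_eq_one (⟨a, haK⟩ : K) (fun e1 => ha0 (by simpa using congrArg Subtype.val e1))
  rw [← Nat.card_eq_fintype_card, e] at h1
  have h2 := congrArg Subtype.val h1
  exact orderOf_dvd_of_pow_eq_one h2

/-- A generator makes the group a commutative ring. -/
theorem of_generator {k : ℕ} (hk : Nat.card L = 2 ^ k) {a : R} (ha : a ∈ L) (ha0 : a ≠ 0)
    (hprim : ∀ j, 0 < j → j < k → ¬ orderOf a ∣ 2 ^ j - 1) : ∀ x ∈ L, ∀ y ∈ L, x * y ∈ L ∧ x * y = y * x := by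
  obtain ⟨j, hj, e, hd⟩ := h.exists_card hk ha ha0
  obtain rfl : j = k := by
    by_contra hne
    refine hprim j ?_ (lt_of_le_of_ne hj hne) hd
    by_contra hj0
    rw [show j = 0 by omega, pow_zero, Nat.card_eq_one_iff_unique] at e
    exact h.nz (congrArg Subtype.val
      (@Subsingleton.elim _ e.1 (1 : Subring.closure ({a} : Set R)) 0))
  set K := Subring.closure ({a} : Set R)
  have hle : K.toAddSubgroup ≤ L := fun y hy => h.closure_le ha hy
  have heq : K.toAddSubgroup = L := AddSubgroup.eq_of_le_of_card_ge hle (by rw [hk]; exact e.ge)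
  intro x hx y hy
  rw [← heq] at hx hy
  refine ⟨hle (K.mul_mem hx hy), ?_⟩
  letI : CommRing K := Subring.closureCommRingOfComm (by rintro u rfl v rfl; rfl)
  exact congrArg Subtype.val (mul_comm (⟨x, hx⟩ : K) ⟨y, hy⟩)

/-- Commuting elements of order three. -/
theorem three_comm {x y : R} (hx : x ∈ L) (hy : y ∈ L) (hx3 : x ^ 3 = 1) (hy3 : y ^ 3 = 1)
    (hx1 : x ≠ 1) (hy1 : y ≠ 1) (hc : x * y = y * x) : y = x ∨ y = x ^ 2 := by
  have key : ∀ z ∈ L, z ^ 3 = 1 → z ≠ 1 → z * z = z + 1 := by
    intro z hz hz3 hz1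
    have h1 : z + 1 ≠ 0 := fun e => hz1 (by
      calc z = z + 1 + 1 := by rw [add_assoc, h.two, add_zero]
        _ = 1 := by rw [e, zero_add])
    have h2 := h.eq_zero (x := z * z + z + 1) (L.add_mem hz h.one) h1 (by
      calc (z + 1) * (z * z + z + 1) = z ^ 3 + (z * z + z * z) + (z + z) + 1 := by noncomm_ring
        _ = 0 := by rw [hz3, h.add_self, h.add_self, add_zero, add_zero, h.two])
    calc z * z = z * z + z + 1 + (z + 1) := by
          rw [show z * z + z + 1 + (z + 1) = z * z + ((z + z) + (1 + 1)) by abel, h.add_self, h.two,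
            add_zero, add_zero]
      _ = z + 1 := by rw [h2, zero_add]
  by_cases h1 : x + y = 0
  · left
    calc y = x + (x + y) := by rw [← add_assoc, h.add_self, zero_add]
      _ = x := by rw [h1, add_zero]
  right
  have h2 := h.eq_zero (x := x + y + 1) (L.add_mem hx hy) h1 (by
    calc (x + y) * (x + y + 1) = x * x + y * y + (x * y + y * x) + (x + y) := by noncomm_ring
      _ = (x + 1) + (y + 1) + 0 + (x + y) := by rw [key x hx hx3 hx1, key y hy hy3 hy1, hc, h.add_self]
      _ = (x + x) + (y + y) + (1 + 1) := by abel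
      _ = 0 := by rw [h.add_self, h.add_self, h.two]; simp)
  rw [pow_two, key x hx hx3 hx1]
  calc y = (x + 1) + (x + y + 1) := by
        rw [show (x + 1) + (x + y + 1) = y + ((x + x) + (1 + 1)) by abel, h.add_self, h.two, add_zero, add_zero]
    _ = x + 1 := by rw [h2, add_zero]

/-- Noncommuting elements of order three. -/
theorem three_noncomm {x y c : R} (hx : x ∈ L) (hy : y ∈ L) (hx3 : x ^ 3 = 1) (hy3 : y ^ 3 = 1)
    (hxy : x * y = c * (y * x)) (hcx : c * x = x * c) (hcy : c * y = y * c) (hc3 : c ^ 3 = 1)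
    (hne : x + y ≠ 0) : c = 1 := by
  have hmem := L.add_mem hx hy
  have w1 : x * x * y = c * c * (y * x * x) := by
    calc x * x * y = x * (c * (y * x)) := by rw [mul_assoc, hxy]
      _ = c * (x * y) * x := by rw [← mul_assoc x, ← hcx]; noncomm_ring
      _ = _ := by rw [hxy]; noncomm_ring
  have w2 : x * y * x = c * (y * x * x) := by rw [hxy]; noncomm_ring
  have w3 : x * y * y = c * c * (y * y * x) := by
    calc x * y * y = c * (y * x) * y := by rw [hxy]
      _ = c * (y * (x * y)) := by noncomm_ring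
      _ = c * (y * (c * (y * x))) := by rw [hxy]
      _ = c * ((y * c) * (y * x)) := by noncomm_ring
      _ = _ := by rw [← hcy]; noncomm_ring
  have w4 : y * x * y = c * (y * y * x) := by
    calc y * x * y = y * c * (y * x) := by rw [mul_assoc, hxy]; noncomm_ring
      _ = _ := by rw [← hcy]; noncomm_ring
  have hcube : (x + y) * ((x + y) * (x + y)) = (c * c + c + 1) * (y * x * x + y * y * x) := by
    calc (x + y) * ((x + y) * (x + y))
        = x ^ 3 + y ^ 3 + (x * x * y + x * y * x + y * x * x) + (x * y * y + y * x * y + y * y * x) := by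
          noncomm_ring
      _ = (c * c * (y * x * x) + c * (y * x * x) + y * x * x) +
            (c * c * (y * y * x) + c * (y * y * x) + y * y * x) := by
          rw [w1, w2, w3, w4, hx3, hy3, h.two, zero_add]
      _ = _ := by noncomm_ring
  have hcu : c * (x + y) = (x + y) * c := by rw [mul_add, add_mul, hcx, hcy]
  have hzero : (x + y) * ((x + y) * ((x + y) * (c + 1))) = 0 := by
    have hcomm : Commute (c + 1) (x + y) := (Commute.add_left (hcu : Commute c (x + y)) (Commute.one_left _))
    calc (x + y) * ((x + y) * ((x + y) * (c + 1)))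
        = (x + y) * ((x + y) * (x + y)) * (c + 1) := by noncomm_ring
      _ = (c + 1) * ((x + y) * ((x + y) * (x + y))) :=
          (hcomm.mul_right (hcomm.mul_right hcomm)).eq.symm
      _ = (c ^ 3 + (c * c + c * c) + (c + c) + 1) * (y * x * x + y * y * x) := by rw [hcube]; noncomm_ring
      _ = 0 := by rw [hc3, h.add_self, h.add_self, add_zero, add_zero, h.two, zero_mul]
  have h1 := h.eq_zero hmem hne (h.eq_zero hmem hne (h.eq_zero hmem hne hzero))
  calc c = c + 1 + 1 := by rw [add_assoc, h.two, add_zero]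
    _ = 1 := by rw [h1, zero_add]

end InvClosed

end CfsgLib.Invol.TIPair
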