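import Cfsg.Agent.Lib.Invol.TIPair.SLTwo
import Cfsg.Agent.Lib.PGroup.FrattiniLe
import Cfsg.Agent.Lib.Coprime.PGroupFrattini

/-!
# The subgroup generated by `P` and its conjugate
-/

set_option autoImplicit false

namespace CfsgLib.Invol.TIPair

open Subgroup
open scoped commutatorElement MatrixGroups

/-- The action of a matrix on pairs. -/
def act {F : Type*} [CommRing F] (M : SL(2, F)) (z : F × F) : F × F :=
  ((M : Matrix (Fin 2) (Fin 2) F) 0 0 * z.1 + (M : Matrix (Fin 2) (Fin 2) F) 0 1 * z.2,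
    (M : Matrix (Fin 2) (Fin 2) F) 1 0 * z.1 + (M : Matrix (Fin 2) (Fin 2) F) 1 1 * z.2)

theorem act_one {F : Type*} [CommRing F] (z : F × F) : act (1 : SL(2, F)) z = z := by
  simp [act]

theorem act_mul {F : Type*} [CommRing F] (M N : SL(2, F)) (z : F × F) : act (M * N) z = act M (act N z) := by
  simp only [act, Matrix.SpecialLinearGroup.coe_mul, Matrix.mul_apply, Fin.sum_univ_two]
  refine Prod.ext ?_ ?_ <;> ring

theorem act_inj {F : Type*} [CommRing F] {M N : SL(2, F)} (h : ∀ z, act M z = act N z) : M = N := by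
  have h1 := h (1, 0)
  have h2 := h (0, 1)
  simp [act, Prod.ext_iff] at h1 h2
  refine Subtype.ext (Matrix.ext fun i j => ?_)
  fin_cases i <;> fin_cases j
  · exact h1.1
  · exact h2.1
  · exact h1.2
  · exact h2.2

variable {G : Type*} [Group G] [Finite G] {V Q : Subgroup G} {g : G}

namespace Pair

/-- The conclusions (b) and (c). -/
theorem main (k : Pair V Q g) :
    (∀ w ∈ plane V g, w ≠ 1 → ∃ x, cj x V ≤ plane V g ∧ w ∈ cj x V) ∧
    (Q ⊓ centralizer (V : Set G)) ⊔ cj g (Q ⊓ centralizer (V : Set G)) ≤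
      normalizer ((plane V g : Subgroup G) : Set G) ∧
    (∀ hN : ((centralizer ((plane V g : Subgroup G) : Set G)).subgroupOf
        ((Q ⊓ centralizer (V : Set G)) ⊔ cj g (Q ⊓ centralizer (V : Set G)))).Normal,
      ∃ (F : Type) (_ : Field F) (_ : Fintype F), Fintype.card F = Nat.card V ∧
        Nonempty ((↥((Q ⊓ centralizer (V : Set G)) ⊔ cj g (Q ⊓ centralizer (V : Set G))) ⧸
          (centralizer ((plane V g : Subgroup G) : Set G)).subgroupOf
            ((Q ⊓ centralizer (V : Set G)) ⊔ cj g (Q ⊓ centralizer (V : Set G)))) ≃* SL(2, F))) ∧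
    Q ⊓ centralizer (V : Set G) = Q := by
  classical
  obtain ⟨F, iF, iFt, e, hcard, hadd, hinj, hplane, hV, hP, hP', hPs, hP's⟩ := k.exists_coords
  rw [← inf_centralizer_cj] at hP' hP's
  set P := Q ⊓ centralizer (V : Set G) with hPdef
  set H := P ⊔ cj g P with hHdef
  let S : Subgroup G :=
    { carrier := {x | ∃ M : SL(2, F), ∀ z, x * e z * x⁻¹ = e (act M z)}
      one_mem' := ⟨1, fun z => by simp [act_one]⟩
      mul_mem' := by
        rintro a b ⟨M, hM⟩ ⟨N, hN⟩
        refine ⟨M * N, fun z => ?_⟩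
        rw [act_mul, ← hM, ← hN]; group
      inv_mem' := by
        rintro a ⟨M, hM⟩
        refine ⟨M⁻¹, fun z => ?_⟩
        have := hM (act M⁻¹ z)
        rw [← act_mul, mul_inv_cancel, act_one] at this
        rw [← this]; group }
  have hup : ∀ (a x y : F), act (CfsgLib.QuadPair.upper a) (x, y) = (x + a * y, y) := fun a x y => by
    simp [act, CfsgLib.QuadPair.upper]
  have hlo : ∀ (b x y : F), act (CfsgLib.QuadPair.lower b) (x, y) = (x, y + b * x) := fun b x y => by
    simp [act, CfsgLib.QuadPair.lower, add_comm]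
  have hHS : H ≤ S := sup_le
    (fun p hp => by
      obtain ⟨a, ha⟩ := hP p hp
      exact ⟨CfsgLib.QuadPair.upper a, fun z => by rw [hup a z.1 z.2]; exact ha z.1 z.2⟩)
    (fun p hp => by
      obtain ⟨b, hb⟩ := hP' p hp
      exact ⟨CfsgLib.QuadPair.lower b, fun z => by rw [hlo b z.1 z.2]; exact hb z.1 z.2⟩)
  have huniq : ∀ {M N : SL(2, F)} {x : G}, (∀ z, x * e z * x⁻¹ = e (act M z)) →
      (∀ z, x * e z * x⁻¹ = e (act N z)) → M = N := fun hM hN =>
    act_inj fun z => hinj ((hM z).symm.trans (hN z))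
  let χ : H →* SL(2, F) := MonoidHom.mk' (fun x => (hHS x.2).choose) fun x y => by
    refine huniq (x := ((x * y : H) : G)) (hHS (x * y).2).choose_spec fun z => ?_
    rw [act_mul, ← (hHS x.2).choose_spec, ← (hHS y.2).choose_spec, Subgroup.coe_mul]; group
  have hχ : ∀ (x : H) z, (x : G) * e z * (x : G)⁻¹ = e (act (χ x) z) := fun x => (hHS x.2).choose_spec
  have hsurj : Function.Surjective χ := by
    rw [← MonoidHom.range_eq_top]
    refine CfsgLib.QuadPair.eq_top_of_elementary _ (fun a => ?_) (fun b => ?_)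
    · obtain ⟨p, hp, hpa⟩ := hPs a
      exact ⟨⟨p, mem_sup_left hp⟩, huniq (hχ _) fun z => by rw [hup a z.1 z.2]; exact hpa z.1 z.2⟩
    · obtain ⟨p, hp, hpb⟩ := hP's b
      exact ⟨⟨p, mem_sup_right hp⟩, huniq (hχ _) fun z => by rw [hlo b z.1 z.2]; exact hpb z.1 z.2⟩
  have hker : (centralizer ((plane V g : Subgroup G) : Set G)).subgroupOf H = χ.ker := by
    ext x
    rw [mem_subgroupOf, MonoidHom.mem_ker, mem_centralizer_iff]
    constructor
    · intro hx
      refine huniq (hχ x) fun z => ?_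
      rw [act_one, ← hx _ ((hplane _).2 ⟨z, rfl⟩), mul_inv_cancel_right]
    · intro hx w hw
      obtain ⟨z, rfl⟩ := (hplane w).1 hw
      have := hχ x z
      rw [hx, act_one] at this
      calc e z * x = (x : G) * e z * (x : G)⁻¹ * x := by rw [this]
        _ = (x : G) * e z := by group
  refine ⟨fun w hw hw1 => ?_, fun x hx => mem_normalizer_of_le fun w hw => ?_, fun hN =>
    ⟨F, iF, iFt, hcard, ⟨(QuotientGroup.quotientMulEquivOfEq hker).trans
      (QuotientGroup.quotientKerEquivOfSurjective χ hsurj)⟩⟩, ?_⟩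
  · obtain ⟨v, hv, t, ht, rfl⟩ := k.mem_plane.1 hw
    by_cases hv1 : v = 1
    · subst hv1
      exact ⟨g, le_sup_right, by rwa [one_mul]⟩
    by_cases ht1 : t = 1
    · subst ht1
      exact ⟨1, by rw [cj_one]; exact le_sup_left, by rw [cj_one, mul_one]; exact hv⟩
    obtain ⟨h, s⟩ := k.exists_side
    obtain ⟨u, hu, eu⟩ := s.bij ht ht1 v hv
    refine ⟨u * g, ?_, ?_⟩
    · rw [← cj_mul]
      intro w hw'
      have := k.conj_plane (s.right.le_P hu) (mem_sup_right (mem_cj.1 hw'))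
      simpa [mul_assoc] using this
    · have : u * t * u⁻¹ = v * t := by
        rw [← eu, k.hyp.comm_symm (k.le_P ht) (s.right.le_P hu), commutatorElement_def]; group
      rw [← this, ← cj_mul]
      exact conj_mem_cj ht
  · obtain ⟨z, rfl⟩ := (hplane w).1 hw
    exact (hplane _).2 ⟨_, (hχ ⟨x, hx⟩ z).symm⟩
  · refine le_antisymm inf_le_left fun q hq => ⟨hq, mem_centralizer_iff.2 fun v hv => ?_⟩
    haveI : Nontrivial Q := by
      obtain ⟨h, s⟩ := k.exists_side
      obtain ⟨t, ht, ht1⟩ := s.exists_ne_one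
      exact ⟨⟨⟨t, k.sub ht⟩, 1, fun e => ht1 (congrArg Subtype.val e)⟩⟩
    haveI : Fact (Nat.Prime 2) := ⟨Nat.prime_two⟩
    haveI := k.hyp.pgroup.center_nontrivial
    obtain ⟨⟨⟨z, hzQ⟩, hzc⟩, hz1⟩ := exists_ne (1 : center Q)
    have hzall : ∀ q ∈ Q, q * z = z * q := fun q hq =>
      congrArg Subtype.val (mem_center_iff.1 hzc ⟨q, hq⟩)
    have hzV : z ∈ V := k.hyp.center_le
      ⟨hzQ, mem_centralizer_iff.2 fun v hv => hzall v (k.hyp.V_le hv)⟩ fun a ha => (hzall a ha.1).symm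
    obtain ⟨x0, hx0⟩ := (hV z).1 hzV
    obtain ⟨x, rfl⟩ := (hV v).1 hv
    have hzero : e (0, 0) = 1 := by
      have := hadd (0, 0) (0, 0)
      rwa [Prod.mk_add_mk, add_zero, eq_comm, mul_eq_left] at this
    have hx00 : x0 ≠ 0 := fun e0 => hz1 (Subtype.ext (Subtype.ext (by
      show z = 1
      rw [← hx0, e0, hzero])))
    by_cases hx : x = 0
    · rw [hx, hzero, one_mul, mul_one]
    let c : F := x / x0
    have hc : c ≠ 0 := div_ne_zero hx hx00
    obtain ⟨t, ht⟩ := hsurj ⟨!![c, 0; 0, c⁻¹], by simp [Matrix.det_fin_two, hc]⟩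
    have htx : ∀ y, (t : G) * e (y, 0) * (t : G)⁻¹ = e (c * y, 0) := fun y => by
      rw [hχ t, ht]; simp [act]
    have htM : (t : G) ∈ normalizer (V : Set G) := mem_normalizer_of_le fun w hw => by
      obtain ⟨y, rfl⟩ := (hV w).1 hw
      exact (hV _).2 ⟨_, (htx y).symm⟩
    have hq' := k.hyp.nrm _ (inv_mem htM) q hq
    rw [inv_inv] at hq'
    have e1 := hzall _ hq'
    rw [show x = c * x0 from (div_mul_cancel₀ x hx00).symm, ← htx, hx0]
    calc (t : G) * z * (t : G)⁻¹ * q = (t : G) * (z * ((t : G)⁻¹ * q * t)) * (t : G)⁻¹ := by group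
      _ = (t : G) * ((t : G)⁻¹ * q * t * z) * (t : G)⁻¹ := by rw [e1]
      _ = q * ((t : G) * z * (t : G)⁻¹) := by group

/-- The invariants of `Q`. -/
theorem invariants (k : Pair V Q g) : (frattini Q).map Q.subtype = V ∧
    (center Q).map Q.subtype = V ∧ (commutator Q).map Q.subtype = V := by
  have hPQ := k.main.2.2.2
  have hmem : ∀ q ∈ Q, q ∈ Q ⊓ centralizer (V : Set G) := fun q hq => by rw [hPQ]; exact hq
  haveI : Fact (Nat.Prime 2) := ⟨Nat.prime_two⟩
  have hcom : commutator Q ≤ V.subgroupOf Q := by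
    rw [commutator_def, Subgroup.commutator_le]
    intro a _ b _
    exact k.hyp.comm_mem (hmem _ a.2) (hmem _ b.2)
  have hge : V ≤ (commutator Q).map Q.subtype := by
    intro v hv
    obtain ⟨h, s⟩ := k.exists_side
    obtain ⟨t, ht, ht1⟩ := s.exists_ne_one
    obtain ⟨u, hu, rfl⟩ := s.bij ht ht1 v hv
    exact ⟨⁅(⟨t, k.sub ht⟩ : Q), (⟨u, (s.right.le_P hu).1⟩ : Q)⁆,
      commutator_mem_commutator (mem_top _) (mem_top _), rfl⟩
  refine ⟨le_antisymm ?_ (hge.trans (map_mono (CfsgLib.Coprime.commutator_le_frattini k.hyp.pgroup))),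
    le_antisymm ?_ ?_, le_antisymm ?_ hge⟩
  · have := CfsgLib.FrattiniLe.frattini_le_of_pow_of_commutator (p := 2) (F := V.subgroupOf Q)
      (fun x => by
        rw [pow_two, mem_subgroupOf]
        exact k.hyp.sq_mem (hmem _ x.2)) hcom
    rintro _ ⟨x, hx, rfl⟩
    exact this hx
  · rintro _ ⟨x, hx, rfl⟩
    exact k.hyp.center_le (hmem _ x.2) fun a ha =>
      (congrArg Subtype.val (mem_center_iff.1 hx ⟨a, ha.1⟩)).symm
  · exact fun v hv => ⟨⟨v, k.hyp.V_le hv⟩, mem_center_iff.2 fun q => Subtype.ext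
      (k.hyp.P_comm_V (hmem _ q.2) hv), rfl⟩
  · rintro _ ⟨x, hx, rfl⟩
    exact hcom hx

end Pair

end CfsgLib.Invol.TIPair
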