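import Cfsg.Agent.Lib.Invol.TIPair.Hyp

/-!
# A conjugate of `V` inside `Q`

The four structural facts: the conjugates commute, `P` is the product of `R = C_P(V')` and a second
conjugate `U`, commutation gives bijections, and `C_P(R) = V V'`.
-/

set_option autoImplicit false

namespace CfsgLib.Invol.TIPair

open Subgroup
open scoped commutatorElement

variable {G : Type*} [Group G]

/-- A conjugate `cj g V` different from `V` inside `Q`. -/
structure Pair (V Q : Subgroup G) (g : G) : Prop where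
  hyp : Hyp V Q
  ne : cj g V ≠ V
  sub : cj g V ≤ Q

/-- The group `V V'`. -/
def plane (V : Subgroup G) (g : G) : Subgroup G := V ⊔ cj g V

namespace Pair

variable {V Q : Subgroup G} {g : G} (k : Pair V Q g)
include k

theorem disj {w : G} (h1 : w ∈ V) (h2 : w ∈ cj g V) : w = 1 := by
  by_contra hw
  exact k.ne ((k.hyp.ti g 1 w hw h2 (by rwa [cj_one])).trans (cj_one V))

variable [Finite G]

theorem comm_V {t v : G} (ht : t ∈ cj g V) (hv : v ∈ V) : t * v = v * t := by
  refine k.hyp.commute_of_normalizes (a := 1) (b := g) (fun u hu w hw => ?_) ?_ t ht v (by rwa [cj_one])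
  · rw [cj_one] at hw ⊢
    exact (mem_normalizer_iff.1 (k.hyp.le (k.sub hu)) w).1 hw
  · rw [cj_one]; exact k.ne.symm

theorem le_P : cj g V ≤ Q ⊓ centralizer (V : Set G) := fun _t ht =>
  ⟨k.sub ht, mem_centralizer_iff.2 fun _v hv => (k.comm_V ht hv).symm⟩

theorem mem_plane {w : G} : w ∈ plane V g ↔ ∃ v ∈ V, ∃ t ∈ cj g V, w = v * t := by
  constructor
  · intro hw
    have : cj g V ≤ normalizer (V : Set G) := fun t ht => k.hyp.le (k.sub ht)
    rw [plane] at hw
    rw [← SetLike.mem_coe, coe_mul_of_right_le_normalizer_left V (cj g V) this, Set.mem_mul] at hw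
    obtain ⟨v, hv, t, ht, e⟩ := hw
    exact ⟨v, hv, t, ht, e.symm⟩
  · rintro ⟨v, hv, t, ht, rfl⟩
    exact mul_mem (mem_sup_left hv) (mem_sup_right ht)

theorem plane_le_P : plane V g ≤ Q ⊓ centralizer (V : Set G) := sup_le k.hyp.V_le_P k.le_P

/-- Elements of `P` normalize the plane. -/
theorem conj_plane {p w : G} (hp : p ∈ Q ⊓ centralizer (V : Set G)) (hw : w ∈ plane V g) :
    p * w * p⁻¹ ∈ plane V g := by
  have e : p * w * p⁻¹ = ⁅p, w⁆ * w := by simp only [commutatorElement_def]; group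
  rw [e]
  exact mul_mem (mem_sup_left (k.hyp.comm_mem hp (k.plane_le_P hw))) hw

/-- Commuting with one element of `V'` in `P` means centralizing `V'`. -/
theorem comm_all {p t : G} (hp : p ∈ Q ⊓ centralizer (V : Set G)) (ht : t ∈ cj g V) (ht1 : t ≠ 1)
    (hc : p * t = t * p) : ∀ t' ∈ cj g V, p * t' = t' * p := by
  intro t' ht'
  refine commutatorElement_eq_one_iff_mul_comm.1 (k.disj (k.hyp.comm_mem hp (k.le_P ht')) ?_)
  rw [commutatorElement_def]
  exact mul_mem (k.hyp.conj_mem_of_commute ht ht1 hc ht') (inv_mem ht')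

/-- A conjugate of `V'` not commuting with it. -/
theorem exists_other : ∃ m ∈ normalizer (V : Set G), ∃ a ∈ cj g V, ∃ b ∈ cj (m * g) V, a * b ≠ b * a := by
  by_contra hcon
  push Not at hcon
  let T : Subgroup G := ⨆ m : normalizer (V : Set G), cj ((m : G) * g) V
  have hTP : T ≤ Q ⊓ centralizer (V : Set G) := iSup_le fun m => by
    rw [← cj_mul]
    intro a ha
    have := k.hyp.nrm_P m.2 (k.le_P (mem_cj.1 ha))
    simpa [mul_assoc] using this
  have hTc : ∀ a ∈ T, ∀ b ∈ T, a * b = b * a := by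
    have key : ∀ m n : normalizer (V : Set G), ∀ a ∈ cj ((m : G) * g) V, ∀ b ∈ cj ((n : G) * g) V,
        a * b = b * a := by
      intro m n a ha b hb
      rw [← cj_mul, mem_cj] at ha
      have hb' : (m : G)⁻¹ * b * m ∈ cj (((m : G)⁻¹ * n) * g) V := by
        rw [mem_cj] at hb ⊢
        simpa [mul_assoc] using hb
      have e := hcon _ (mul_mem (inv_mem m.2) n.2) _ ha _ hb'
      calc a * b = (m : G) * ((m : G)⁻¹ * a * m * ((m : G)⁻¹ * b * m)) * (m : G)⁻¹ := by group
        _ = (m : G) * ((m : G)⁻¹ * b * m * ((m : G)⁻¹ * a * m)) * (m : G)⁻¹ := by rw [e]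
        _ = b * a := by group
    have : T ≤ centralizer (T : Set G) := iSup_le fun m a ha => by
      have : T ≤ centralizer ({a} : Set G) := iSup_le fun n b hb =>
        mem_centralizer_singleton_iff.2 (key n m b hb a ha)
      exact mem_centralizer_iff.2 fun x hx => mem_centralizer_singleton_iff.1 (this hx)
    exact fun a ha b hb => mem_centralizer_iff.1 (this hb) a ha
  have hle : T ⊔ V ≤ V := by
    refine k.hyp.maxab _ le_sup_right (sup_le (hTP.trans (inf_le_left.trans k.hyp.le)) le_normalizer) ?_ ?_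
    · have h1 : T ⊔ V ≤ centralizer ((T ⊔ V : Subgroup G) : Set G) := by
        refine sup_le (fun a ha => ?_) (fun v hv => ?_)
        · have : T ⊔ V ≤ centralizer ({a} : Set G) := sup_le
            (fun b hb => mem_centralizer_singleton_iff.2 (hTc b hb a ha))
            (fun v hv => mem_centralizer_singleton_iff.2 (k.hyp.P_comm_V (hTP ha) hv).symm)
          exact mem_centralizer_iff.2 fun x hx => mem_centralizer_singleton_iff.1 (this hx)
        · exact mem_centralizer_iff.2 fun x hx => k.hyp.P_comm_V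
            ((sup_le hTP k.hyp.V_le_P : T ⊔ V ≤ _) hx) hv
      exact fun a ha b hb => mem_centralizer_iff.1 (h1 hb) a ha
    · intro m hm a ha
      have : (T ⊔ V).map (MulAut.conj m).toMonoidHom ≤ T ⊔ V := by
        rw [Subgroup.map_sup, Subgroup.map_iSup]
        refine sup_le_sup (iSup_le fun n => ?_) (cj_eq_self_iff.2 hm).le
        refine le_of_eq_of_le ?_ (le_iSup (fun n : normalizer (V : Set G) => cj ((n : G) * g) V)
          ⟨m * n, mul_mem hm n.2⟩)
        show cj m (cj ((n : G) * g) V) = cj (m * n * g) V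
        rw [cj_mul, mul_assoc]
      exact this ⟨a, ha, rfl⟩
  have hV' : cj g V ≤ V := fun a ha => hle (mem_sup_left
    (mem_iSup_of_mem (⟨1, one_mem _⟩ : normalizer (V : Set G)) (by simpa using ha)))
  exact k.ne (eq_of_le_of_card_ge hV' (card_cj g V).ge)

omit [Finite G] in
theorem of_mem {m : G} (hm : m ∈ normalizer (V : Set G)) : Pair V Q (m * g) where
  hyp := k.hyp
  ne := fun e => k.ne (by
    ext w
    constructor
    · intro hw
      have := conj_mem_cj (x := m) hw
      rw [cj_mul, e] at this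
      exact (mem_normalizer_iff.1 hm w).2 this
    · intro hw
      have := (mem_normalizer_iff.1 hm w).1 hw
      rw [← e, ← cj_mul, mem_cj] at this
      simpa [mul_assoc] using this)
  sub := by
    rw [← cj_mul]
    intro a ha
    have := k.hyp.nrm m hm _ (k.sub (mem_cj.1 ha))
    simpa [mul_assoc] using this

end Pair

/-- A conjugate in `P` not commuting with `cj g V`. -/
structure Side (V Q : Subgroup G) (g h : G) : Prop where
  left : Pair V Q g
  right : Pair V Q h
  apart : ∃ a ∈ cj g V, ∃ b ∈ cj h V, a * b ≠ b * a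

theorem Pair.exists_side [Finite G] {V Q : Subgroup G} {g : G} (k : Pair V Q g) : ∃ h, Side V Q g h := by
  obtain ⟨m, hm, a, ha, b, hb, hab⟩ := k.exists_other
  exact ⟨m * g, k, k.of_mem hm, a, ha, b, hb, hab⟩

namespace Side

variable {V Q : Subgroup G} {g h : G} (s : Side V Q g h)
include s

theorem symm : Side V Q h g :=
  ⟨s.right, s.left, by obtain ⟨a, ha, b, hb, hab⟩ := s.apart; exact ⟨b, hb, a, ha, Ne.symm hab⟩⟩

variable [Finite G]

theorem eq_one {t u : G} (ht : t ∈ cj g V) (hu : u ∈ cj h V) (hu1 : u ≠ 1) (hc : t * u = u * t) : t = 1 := by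
  by_contra ht1
  obtain ⟨a, ha, b, hb, hab⟩ := s.apart
  refine hab ?_
  have h1 := s.left.comm_all (s.right.le_P hu) ht ht1 hc.symm a ha
  exact s.right.comm_all (s.left.le_P ha) hu hu1 h1.symm b hb

theorem bij {t : G} (ht : t ∈ cj g V) (ht1 : t ≠ 1) :
    ∀ v ∈ V, ∃ u ∈ cj h V, ⁅t, u⁆ = v := by
  let φ : cj h V →* V := MonoidHom.mk'
    (fun u => ⟨⁅t, (u : G)⁆, s.left.hyp.comm_mem (s.left.le_P ht) (s.right.le_P u.2)⟩) fun u u' =>
    Subtype.ext (s.left.hyp.comm_mul_right (s.left.le_P ht) (s.right.le_P u.2) (s.right.le_P u'.2))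
  have hinj : Function.Injective φ := by
    rw [← MonoidHom.ker_eq_bot_iff, eq_bot_iff]
    intro u hu
    refine mem_bot.2 (Subtype.ext (by_contra fun hu1 => ht1 ?_))
    exact s.eq_one ht u.2 hu1 (commutatorElement_eq_one_iff_mul_comm.1 (congrArg Subtype.val (MonoidHom.mem_ker.1 hu)))
  have hb := (Nat.bijective_iff_injective_and_card φ).2 ⟨hinj, card_cj h V⟩
  intro v hv
  obtain ⟨u, hu⟩ := hb.2 ⟨v, hv⟩
  exact ⟨u, u.2, congrArg Subtype.val hu⟩

/-- The bijection in the other variable. -/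
theorem bij' {u : G} (hu : u ∈ cj h V) (hu1 : u ≠ 1) : ∀ v ∈ V, ∃ t ∈ cj g V, ⁅t, u⁆ = v := by
  intro v hv
  obtain ⟨t, ht, e⟩ := s.symm.bij hu hu1 v hv
  exact ⟨t, ht, by rw [s.left.hyp.comm_symm (s.left.le_P ht) (s.right.le_P hu)]; exact e⟩

theorem exists_ne_one : ∃ t ∈ cj g V, t ≠ 1 := by
  obtain ⟨a, ha, b, -, hab⟩ := s.apart
  exact ⟨a, ha, fun e => hab (by rw [e, one_mul, mul_one])⟩

/-- `P = R U`. -/
theorem exists_cancel {p : G} (hp : p ∈ Q ⊓ centralizer (V : Set G)) :
    ∃ u ∈ cj h V, ∀ t ∈ cj g V, p * u * t = t * (p * u) := by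
  obtain ⟨t, ht, ht1⟩ := s.exists_ne_one
  obtain ⟨u, hu, e⟩ := s.bij ht ht1 ⁅t, p⁆ (s.left.hyp.comm_mem (s.left.le_P ht) hp)
  refine ⟨u, hu, s.left.comm_all (mul_mem hp (s.right.le_P hu)) ht ht1 ?_⟩
  have : ⁅t, p * u⁆ = 1 := by
    rw [s.left.hyp.comm_mul_right (s.left.le_P ht) hp (s.right.le_P hu), e,
      s.left.hyp.sq' (s.left.hyp.comm_mem (s.left.le_P ht) hp)]
  exact (commutatorElement_eq_one_iff_mul_comm.1 this).symm

/-- `C_P(R) = V V'`. -/
theorem mem_plane_of_comm {e : G} (he : e ∈ Q ⊓ centralizer (V : Set G))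
    (hR : ∀ r ∈ Q ⊓ centralizer (V : Set G), (∀ t ∈ cj g V, r * t = t * r) → e * r = r * e) :
    e ∈ plane V g := by
  obtain ⟨u1, hu1, hu1'⟩ := s.symm.exists_ne_one
  obtain ⟨t, ht, het⟩ := s.bij' hu1 hu1' ⁅e, u1⁆ (s.left.hyp.comm_mem he (s.right.le_P hu1))
  have hetP := mul_mem he (s.left.le_P ht)
  have h1 : ⁅e * t, u1⁆ = 1 := by
    rw [s.left.hyp.comm_mul_left he (s.left.le_P ht) (s.right.le_P hu1), het,
      s.left.hyp.sq' (s.left.hyp.comm_mem he (s.right.le_P hu1))]
  have hU := s.right.comm_all hetP hu1 hu1' (commutatorElement_eq_one_iff_mul_comm.1 h1)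
  have hV : e * t ∈ V := by
    refine s.left.hyp.center_le hetP fun p hp => ?_
    obtain ⟨u, hu, hpu⟩ := s.exists_cancel hp
    have hr := mul_mem hp (s.right.le_P hu)
    have e1 : e * t * (p * u) = p * u * (e * t) := by
      rw [mul_assoc, ← hpu t ht, ← mul_assoc, hR _ hr hpu, mul_assoc]
    calc e * t * p = e * t * (p * u) * u⁻¹ := by group
      _ = p * u * (e * t * u⁻¹) := by rw [e1, mul_assoc]
      _ = p * u * (u⁻¹ * (e * t)) := by rw [s.left.hyp.inv_eq hu, hU u hu]
      _ = p * (e * t) := by group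
  have : e = e * t * t := by rw [mul_assoc, s.left.hyp.sq ht, mul_one]
  rw [this]
  exact mul_mem (mem_sup_left hV) (mem_sup_right ht)

end Side

end CfsgLib.Invol.TIPair
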