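import Cfsg.Agent.Lib.Invol.TIPair.Shift
import Cfsg.Agent.Lib.Invol.TIPair.Field
import Cfsg.Agent.Lib.QuadPair.SLTwo
import Mathlib.FieldTheory.Finite.GaloisField

/-!
# The special linear group on the plane `V V'`

Commutation with elements of `P` and of its conjugate gives an inverse-closed additive group of
endomorphisms of `V`, hence coordinates over a field in which both groups act by shears.
-/

set_option autoImplicit false

namespace CfsgLib.Invol.TIPair

open Subgroup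
open scoped commutatorElement

/-- Two additive groups containing `1` whose nonzero parts are inverse to each other. -/
theorem InvClosed.of_inverse {R : Type*} [Ring R] {L N : AddSubgroup R} (h1 : (1 : R) ∈ L) (h1' : (1 : R) ∈ N)
    (hnz : (1 : R) ≠ 0) (h2 : (1 : R) + 1 = 0)
    (hLN : ∀ a ∈ L, a ≠ 0 → ∃ b ∈ N, a * b = 1 ∧ b * a = 1)
    (hNL : ∀ b ∈ N, b ≠ 0 → ∃ a ∈ L, a * b = 1 ∧ b * a = 1) : InvClosed L := by
  refine ⟨h1, hnz, h2, fun a ha ha0 => ?_⟩
  by_cases ha1 : 1 + a = 0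
  · have e : a = 1 := by
      calc a = (1 + 1) + a := by rw [h2, zero_add]
        _ = 1 := by rw [add_assoc, ha1, add_zero]
    subst e
    exact ⟨1, h1, one_mul 1, one_mul 1⟩
  obtain ⟨n, hn, hcn, hnc⟩ := hLN _ (L.add_mem h1 ha) ha1
  obtain ⟨a', -, haa', ha'a⟩ := hLN a ha ha0
  have hm : 1 + n = a * n := by
    calc 1 + n = (1 + a) * n + n := by rw [hcn]
      _ = a * n + (1 + 1) * n := by noncomm_ring
      _ = a * n := by rw [h2, zero_mul, add_zero]
  have hm0 : 1 + n ≠ 0 := fun e => by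
    rw [hm] at e
    have h0 : n = 0 := by
      calc n = a' * a * n := by rw [ha'a, one_mul]
        _ = 0 := by rw [mul_assoc, e, mul_zero]
    exact hnz (by rw [← hcn, h0, mul_zero])
  obtain ⟨c, hc, hcm, -⟩ := hNL _ (N.add_mem h1' hn) hm0
  have hc' : c = a' + 1 := by
    have e1 : (1 + n) * ((1 + a) * a') = 1 := by
      rw [hm, mul_assoc, ← mul_assoc n, hnc, one_mul, haa']
    calc c = c * ((1 + n) * ((1 + a) * a')) := by rw [e1, mul_one]
      _ = (1 + a) * a' := by rw [← mul_assoc, hcm, one_mul]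
      _ = a' + 1 := by rw [add_mul, one_mul, haa']
  have ha'L : a' ∈ L := by
    have := L.add_mem hc h1
    rwa [hc', add_assoc, h2, add_zero] at this
  exact ⟨a', ha'L, haa', ha'a⟩

variable {G : Type*} [Group G] [Finite G] {V Q : Subgroup G} {g : G}

theorem cj_inv_cj (g : G) (V : Subgroup G) : cj g⁻¹ (cj g V) = V := by
  rw [cj_mul, inv_mul_cancel, cj_one]

namespace Pair

variable (k : Pair V Q g)
include k

theorem flip : Pair (cj g V) (cj g Q) g⁻¹ where
  hyp := k.hyp.conj g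
  ne := by rw [cj_inv_cj]; exact k.ne.symm
  sub := by rw [cj_inv_cj]; exact k.V_le_conj

theorem split {v t v' t' : G} (hv : v ∈ V) (ht : t ∈ cj g V) (hv' : v' ∈ V) (ht' : t' ∈ cj g V)
    (e : v * t = v' * t') : v = v' ∧ t = t' := by
  have e1 : v'⁻¹ * v = t' * t⁻¹ := by
    calc v'⁻¹ * v = v'⁻¹ * (v * t) * t⁻¹ := by group
      _ = t' * t⁻¹ := by rw [e]; group
  have h0 := k.disj (mul_mem (inv_mem hv') hv) (e1 ▸ mul_mem ht' (inv_mem ht))
  have hvv : v = v' := (inv_mul_eq_one.1 h0).symm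
  exact ⟨hvv, mul_left_cancel (hvv ▸ e)⟩

theorem plane_flip : plane (cj g V) g⁻¹ = plane V g := by
  rw [plane, plane, cj_inv_cj, sup_comm]

theorem V_le_P' : V ≤ cj g Q ⊓ centralizer ((cj g V : Subgroup G) : Set G) := by
  have := k.flip.le_P
  rwa [cj_inv_cj] at this

/-- Two graphs with a common point are inverse to each other. -/
theorem inverse_of_point {p p' t0 v0 : G} (hp : p ∈ Q ⊓ centralizer (V : Set G))
    (hp' : p' ∈ cj g Q ⊓ centralizer ((cj g V : Subgroup G) : Set G))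
    (ht0 : t0 ∈ cj g V) (hv0 : v0 ∈ V) (ht1 : t0 ≠ 1) (e1 : ⁅p, t0⁆ = v0) (e2 : ⁅p', v0⁆ = t0) :
    ∀ v ∈ V, ⁅p, ⁅p', v⁆⁆ = v := by
  have hw : v0 * t0 ≠ 1 := fun e =>
    ht1 (k.disj ((eq_inv_of_mul_eq_one_right e) ▸ inv_mem hv0) ht0)
  have h1 : v0 * t0 ∈ cj (p * g) V := by
    have : p * t0 * p⁻¹ = v0 * t0 := by rw [← e1, commutatorElement_def]; group
    rw [← this, ← cj_mul]; exact conj_mem_cj ht0
  have h2 : v0 * t0 ∈ cj p' V := by
    have : p' * v0 * p'⁻¹ = v0 * t0 := by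
      rw [← k.comm_V ht0 hv0, ← e2, commutatorElement_def]; group
    rw [← this]; exact conj_mem_cj hv0
  have heq := k.hyp.ti _ _ _ hw h1 h2
  intro v hv
  have hm : p' * v * p'⁻¹ ∈ cj (p * g) V := heq ▸ conj_mem_cj hv
  rw [← cj_mul, mem_cj] at hm
  set t := p⁻¹ * (p' * v * p'⁻¹) * p with htdef
  have hψ : ⁅p', v⁆ ∈ cj g V := k.flip.hyp.comm_mem hp' (k.V_le_P' hv)
  have e : v * ⁅p', v⁆ = ⁅p, t⁆ * t := by
    calc v * ⁅p', v⁆ = ⁅p', v⁆ * v := (k.comm_V hψ hv).symm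
      _ = p' * v * p'⁻¹ := by rw [commutatorElement_def]; group
      _ = p * t * p⁻¹ := by rw [htdef]; group
      _ = _ := by rw [commutatorElement_def]; group
  obtain ⟨a, b⟩ := k.split hv hψ (k.hyp.comm_mem hp (k.le_P hm)) hm e
  rw [b]
  exact a.symm

/-- Coordinates on the plane. -/
theorem exists_coords : ∃ (F : Type) (_ : Field F) (_ : Fintype F) (e : F × F → G),
    Fintype.card F = Nat.card V ∧ (∀ z z', e (z + z') = e z * e z') ∧ Function.Injective e ∧
    (∀ w, w ∈ plane V g ↔ ∃ z, e z = w) ∧ (∀ w, w ∈ V ↔ ∃ x, e (x, 0) = w) ∧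
    (∀ p ∈ Q ⊓ centralizer (V : Set G), ∃ a, ∀ x y, p * e (x, y) * p⁻¹ = e (x + a * y, y)) ∧
    (∀ p ∈ cj g Q ⊓ centralizer ((cj g V : Subgroup G) : Set G),
      ∃ b, ∀ x y, p * e (x, y) * p⁻¹ = e (x, y + b * x)) ∧
    (∀ a, ∃ p ∈ Q ⊓ centralizer (V : Set G), ∀ x y, p * e (x, y) * p⁻¹ = e (x + a * y, y)) ∧
    (∀ b, ∃ p ∈ cj g Q ⊓ centralizer ((cj g V : Subgroup G) : Set G),
      ∀ x y, p * e (x, y) * p⁻¹ = e (x, y + b * x)) := by
  classical
  set P := Q ⊓ centralizer (V : Set G) with hP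
  set P' := cj g Q ⊓ centralizer ((cj g V : Subgroup G) : Set G) with hP'
  obtain ⟨h, s⟩ := k.exists_side
  obtain ⟨h', s'⟩ := k.flip.exists_side
  obtain ⟨u1, hu1, hu11⟩ := s.symm.exists_ne_one
  letI : CommGroup V := { (inferInstance : Group V) with mul_comm := fun a b => Subtype.ext (k.hyp.comm' a.2 b.2) }
  letI : CommGroup (cj g V) :=
    { (inferInstance : Group (cj g V)) with mul_comm := fun a b => Subtype.ext (k.hyp.comm a.2 b.2) }
  let φ : P →* (cj g V →* V) := MonoidHom.mk'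
    (fun p => MonoidHom.mk' (fun t => ⟨⁅(p : G), (t : G)⁆, k.hyp.comm_mem p.2 (k.le_P t.2)⟩)
      fun t t' => Subtype.ext (k.hyp.comm_mul_right p.2 (k.le_P t.2) (k.le_P t'.2)))
    fun p p' => MonoidHom.ext fun t => Subtype.ext (k.hyp.comm_mul_left p.2 p'.2 (k.le_P t.2))
  let ψ : P' →* (V →* cj g V) := MonoidHom.mk'
    (fun p => MonoidHom.mk' (fun v => ⟨⁅(p : G), (v : G)⁆, k.flip.hyp.comm_mem p.2 (k.V_le_P' v.2)⟩)
      fun t t' => Subtype.ext (k.flip.hyp.comm_mul_right p.2 (k.V_le_P' t.2) (k.V_le_P' t'.2)))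
    fun p p' => MonoidHom.ext fun t => Subtype.ext (k.flip.hyp.comm_mul_left p.2 p'.2 (k.V_le_P' t.2))
  have hφinj : ∀ p : P, φ p ≠ 1 → Function.Injective (φ p) := by
    intro p hp
    obtain ⟨u, hu, hpu⟩ := s.exists_cancel p.2
    have he : ∀ t : cj g V, ((φ p t : V) : G) = ⁅u, (t : G)⁆ := fun t => by
      have e := commutatorElement_eq_one_iff_mul_comm.2 (hpu t t.2)
      rw [k.hyp.comm_mul_left p.2 (s.right.le_P hu) (k.le_P t.2)] at e
      have := k.hyp.inv_eq' (k.hyp.comm_mem (s.right.le_P hu) (k.le_P t.2))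
      show ⁅(p : G), (t : G)⁆ = _
      rw [eq_inv_of_mul_eq_one_left e, this]
    have hu0 : u ≠ 1 := fun e => hp (MonoidHom.ext fun t => Subtype.ext (by
      rw [he t, e, commutatorElement_one_left]; rfl))
    rw [← MonoidHom.ker_eq_bot_iff, eq_bot_iff]
    intro t ht
    refine mem_bot.2 (Subtype.ext (s.eq_one t.2 hu hu0 ?_))
    have := he t
    rw [MonoidHom.mem_ker.1 ht] at this
    exact (commutatorElement_eq_one_iff_mul_comm.1 this.symm).symm
  let p1 : P := ⟨u1, s.right.le_P hu1⟩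
  have hφ1 : φ p1 ≠ 1 := by
    intro e
    obtain ⟨t, ht, ht1⟩ := s.exists_ne_one
    refine ht1 (s.eq_one ht hu1 hu11 ?_)
    have := congrArg Subtype.val (DFunLike.congr_fun e ⟨t, ht⟩)
    exact (commutatorElement_eq_one_iff_mul_comm.1 this).symm
  let e1 : cj g V ≃* V := MulEquiv.ofBijective (φ p1)
    ((Nat.bijective_iff_injective_and_card _).2 ⟨hφinj p1 hφ1, card_cj g V⟩)
  let M := Additive V
  haveI : Finite (AddMonoid.End M) := Finite.of_injective _ DFunLike.coe_injective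
  let A : Additive P →+ AddMonoid.End M := AddMonoidHom.mk'
    (fun p => MonoidHom.toAdditive ((φ p.toMul).comp e1.symm.toMonoidHom))
    fun p p' => AddMonoidHom.ext fun v => by
      show Additive.ofMul (φ (p.toMul * p'.toMul) (e1.symm v.toMul)) = _
      rw [map_mul]; rfl
  let B : Additive P' →+ AddMonoid.End M := AddMonoidHom.mk'
    (fun p => MonoidHom.toAdditive (e1.toMonoidHom.comp (ψ p.toMul)))
    fun p p' => AddMonoidHom.ext fun v => by
      show Additive.ofMul (e1 (ψ (p.toMul * p'.toMul) v.toMul)) = _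
      rw [map_mul]
      show Additive.ofMul (e1 (ψ p.toMul v.toMul * ψ p'.toMul v.toMul)) = _
      rw [map_mul]; rfl
  let ev : AddMonoid.End M → V → V := fun a v => (a (Additive.ofMul v)).toMul
  have hext : ∀ a b : AddMonoid.End M, (∀ v, ev a v = ev b v) → a = b := fun a b hab =>
    AddMonoidHom.ext fun v => congrArg Additive.ofMul (hab v.toMul)
  -- inverse pairs
  have hpair : ∀ (p : P) (p' : P') (t0 : cj g V), t0 ≠ 1 → ψ p' (φ p t0) = t0 →
      A (Additive.ofMul p) * B (Additive.ofMul p') = 1 := by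
    intro p p' t0 ht0 he
    refine hext _ _ fun v => ?_
    show φ p (e1.symm (e1 (ψ p' v))) = v
    rw [MulEquiv.symm_apply_apply]
    exact Subtype.ext (k.inverse_of_point p.2 p'.2 t0.2 (φ p t0).2
      (fun e => ht0 (Subtype.ext e)) rfl (congrArg Subtype.val he) v v.2)
  have hfin : ∀ a b : AddMonoid.End M, a * b = 1 → b * a = 1 := by
    intro a b hab
    have hb : Function.Injective (ev b) := fun v w e => by
      have := congrArg (ev a) e
      change ev (a * b) v = ev (a * b) w at this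
      rwa [hab] at this
    obtain hs := Finite.injective_iff_surjective.1 hb
    refine hext _ _ fun v => ?_
    obtain ⟨w, rfl⟩ := hs v
    show ev b (ev (a * b) w) = ev b w
    rw [hab]; rfl
  obtain ⟨t1, ht1, ht11⟩ := s.exists_ne_one
  have hAB : ∀ a ∈ A.range, a ≠ 0 → ∃ b ∈ B.range, a * b = 1 ∧ b * a = 1 := by
    rintro _ ⟨p, rfl⟩ hp
    have hne : φ p.toMul ≠ 1 := fun e => hp (hext _ _ fun v => by
      show φ p.toMul (e1.symm v) = 1
      rw [e]; rfl)
    have hv0 : φ p.toMul ⟨t1, ht1⟩ ≠ 1 := fun e =>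
      ht11 (congrArg Subtype.val (hφinj _ hne (e.trans (map_one (φ p.toMul)).symm)))
    set v0 := φ p.toMul ⟨t1, ht1⟩
    obtain ⟨u, hu, eu⟩ := s'.bij (t := (v0 : G)) (by rw [cj_inv_cj]; exact v0.2)
      (fun e => hv0 (Subtype.ext e)) t1 ht1
    refine ⟨B (Additive.ofMul ⟨u, s'.right.le_P hu⟩), ⟨_, rfl⟩, ?_⟩
    have he : ψ ⟨u, s'.right.le_P hu⟩ v0 = ⟨t1, ht1⟩ := Subtype.ext (by
      show ⁅u, (v0 : G)⁆ = t1
      rw [k.flip.hyp.comm_symm (s'.right.le_P hu) (k.V_le_P' v0.2)]; exact eu)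
    have h := hpair p.toMul _ ⟨t1, ht1⟩ (fun e => ht11 (congrArg Subtype.val e)) he
    exact ⟨h, hfin _ _ h⟩
  have hBA : ∀ b ∈ B.range, b ≠ 0 → ∃ a ∈ A.range, a * b = 1 ∧ b * a = 1 := by
    rintro _ ⟨p, rfl⟩ hp
    obtain ⟨v0, hv0⟩ : ∃ v0, ψ p.toMul v0 ≠ 1 := by
      by_contra hall
      push Not at hall
      exact hp (hext _ _ fun v => by
        show e1 (ψ p.toMul v) = 1
        rw [hall v, map_one])
    obtain ⟨u, hu, eu⟩ := s.bij (ψ p.toMul v0).2 (fun e => hv0 (Subtype.ext e)) v0 v0.2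
    refine ⟨A (Additive.ofMul ⟨u, s.right.le_P hu⟩), ⟨_, rfl⟩, ?_⟩
    have he : φ ⟨u, s.right.le_P hu⟩ (ψ p.toMul v0) = v0 := Subtype.ext (by
      show ⁅u, ((ψ p.toMul v0 : cj g V) : G)⁆ = v0
      rw [k.hyp.comm_symm (s.right.le_P hu) (k.le_P (ψ p.toMul v0).2)]; exact eu)
    have h := hpair _ p.toMul (ψ p.toMul v0) hv0 (by rw [he])
    exact ⟨h, hfin _ _ h⟩
  -- the field
  have hA1 : (1 : AddMonoid.End M) ∈ A.range := ⟨Additive.ofMul p1, hext _ _ fun v => e1.apply_symm_apply v⟩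
  have hB1 : (1 : AddMonoid.End M) ∈ B.range := by
    obtain ⟨b, hb, hab, -⟩ := hAB 1 hA1 (fun e => hφ1 (MonoidHom.ext fun t => by
      have := congrArg (fun a => ev a (e1 t)) e
      exact this))
    rw [one_mul] at hab
    rwa [← hab]
  have hnz : (1 : AddMonoid.End M) ≠ 0 := fun e => hφ1 (MonoidHom.ext fun t => by
    exact congrArg (fun a => ev a (e1 t)) e)
  have h2 : (1 : AddMonoid.End M) + 1 = 0 := hext _ _ fun v => Subtype.ext (k.hyp.sq' v.2)
  have hL := InvClosed.of_inverse hA1 hB1 hnz h2 hAB hBA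
  have hBL : ∀ b ∈ B.range, b ∈ A.range := by
    intro b hb
    by_cases hb0 : b = 0
    · rw [hb0]; exact zero_mem _
    obtain ⟨a, ha, hab, hba⟩ := hBA b hb hb0
    obtain ⟨a', ha', haa', -⟩ := hL.inv a ha (fun e => hnz (by rw [← hab, e, zero_mul]))
    rwa [show b = a' by calc b = b * (a * a') := by rw [haa', mul_one]
      _ = a' := by rw [← mul_assoc, hba, one_mul]]
  have hLB : ∀ a ∈ A.range, a ∈ B.range := by
    intro a ha
    by_cases ha0 : a = 0
    · rw [ha0]; exact zero_mem _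
    obtain ⟨a', ha', haa', ha'a⟩ := hL.inv a ha ha0
    obtain ⟨b, hb, ha'b, -⟩ := hAB a' ha' (fun e => hnz (by rw [← ha'a, e, zero_mul]))
    rwa [show a = b by calc a = a * (a' * b) := by rw [ha'b, mul_one]
      _ = b := by rw [← mul_assoc, haa', one_mul]]
  -- its size
  have hcard : Nat.card A.range = Nat.card V := by
    rw [← card_cj h V]
    refine (Nat.card_eq_of_bijective (fun u : cj h V =>
      (⟨A (Additive.ofMul ⟨u, s.right.le_P u.2⟩), _, rfl⟩ : A.range)) ⟨fun u u' e => ?_, fun a => ?_⟩).symm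
    · have e' := congrArg (fun a : A.range => ev a.1 (e1 ⟨t1, ht1⟩)) e
      have e'' : ⁅(u : G), t1⁆ = ⁅(u' : G), t1⁆ := by
        have := congrArg Subtype.val e'
        simp only [ev] at this
        change ((φ _ (e1.symm (e1 ⟨t1, ht1⟩)) : V) : G) = ((φ _ (e1.symm (e1 ⟨t1, ht1⟩)) : V) : G) at this
        rw [MulEquiv.symm_apply_apply] at this
        exact this
      by_contra hne
      refine ht11 (s.eq_one ht1 (mul_mem u.2 u'.2) (fun e0 => hne (Subtype.ext ?_)) ?_)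
      · rw [eq_inv_of_mul_eq_one_left e0, k.hyp.inv_eq u'.2]
      · refine (commutatorElement_eq_one_iff_mul_comm.1 ?_).symm
        rw [k.hyp.comm_mul_left (s.right.le_P u.2) (s.right.le_P u'.2) (k.le_P ht1), e'',
          k.hyp.sq' (k.hyp.comm_mem (s.right.le_P u'.2) (k.le_P ht1))]
    · obtain ⟨a, p, rfl⟩ := a
      obtain ⟨u, hu, hpu⟩ := s.exists_cancel p.toMul.2
      refine ⟨⟨u, hu⟩, Subtype.ext (hext _ _ fun v => Subtype.ext ?_)⟩
      show ⁅u, ((e1.symm v : cj g V) : G)⁆ = ⁅((p.toMul : P) : G), ((e1.symm v : cj g V) : G)⁆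
      have e := commutatorElement_eq_one_iff_mul_comm.2 (hpu _ (e1.symm v).2)
      rw [k.hyp.comm_mul_left p.toMul.2 (s.right.le_P hu) (k.le_P (e1.symm v).2)] at e
      rw [eq_inv_of_mul_eq_one_left e,
        k.hyp.inv_eq' (k.hyp.comm_mem (s.right.le_P hu) (k.le_P (e1.symm v).2))]
  have hVp : IsPGroup 2 V := k.hyp.pgroup.to_le k.hyp.V_le
  obtain ⟨n, hn⟩ := IsPGroup.iff_card.1 hVp
  have hn0 : n ≠ 0 := by
    rintro rfl
    rw [pow_zero, Nat.card_eq_one_iff_unique] at hn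
    exact hφ1 (MonoidHom.ext fun t => @Subsingleton.elim _ hn.1 _ _)
  have hf := hL.isField (hcard.trans hn)
  let K : Subring (AddMonoid.End M) :=
    { A.range with one_mem' := hA1, mul_mem' := fun ha hb => (hf _ ha _ hb).1 }
  letI : CommRing K := { (inferInstance : Ring K) with
    mul_comm := fun a b => Subtype.ext (hf _ a.2 _ b.2).2 }
  have hKf : IsField K := ⟨⟨1, 0, fun e => hnz (congrArg Subtype.val e)⟩, mul_comm, fun {a} ha => by
    obtain ⟨b, hb, hab, -⟩ := hL.inv a.1 a.2 (fun e => ha (Subtype.ext e))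
    exact ⟨⟨b, hb⟩, Subtype.ext hab⟩⟩
  letI : Field K := hKf.toField
  letI : Fintype K := Fintype.ofFinite K
  haveI : Fact (Nat.Prime 2) := ⟨Nat.prime_two⟩
  letI : Fintype (GaloisField 2 n) := Fintype.ofFinite _
  have hcK : Nat.card K = 2 ^ n := hcard.trans hn
  have hcF : Fintype.card (GaloisField 2 n) = Fintype.card K := by
    rw [← Nat.card_eq_fintype_card, ← Nat.card_eq_fintype_card, hcK, GaloisField.card 2 n hn0]
  let σ : GaloisField 2 n ≃+* K := FiniteField.ringEquivOfCardEq hcF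
  obtain ⟨v0, hv0, hv01⟩ : ∃ v0 ∈ V, v0 ≠ (1 : G) :=
    ⟨φ p1 ⟨t1, ht1⟩, (φ p1 ⟨t1, ht1⟩).2, fun e =>
      ht11 (congrArg Subtype.val (hφinj p1 hφ1 ((Subtype.ext e : φ p1 ⟨t1, ht1⟩ = 1).trans (map_one (φ p1)).symm)))⟩
  let sc : GaloisField 2 n → V := fun x => ev (σ x).1 ⟨v0, hv0⟩
  have sc_add : ∀ x y, sc (x + y) = sc x * sc y := fun x y => by
    show ev (σ (x + y)).1 _ = _
    rw [map_add]; rfl
  have sc_mul : ∀ x y, sc (x * y) = ev (σ x).1 (sc y) := fun x y => by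
    show ev (σ (x * y)).1 _ = _
    rw [map_mul]; rfl
  have sc_inj : Function.Injective sc := by
    intro x y e
    by_contra hne
    have h0 : (σ x).1 + (σ y).1 ≠ 0 := fun e0 => hne (σ.injective (Subtype.ext (by
      rw [← sub_eq_zero, hL.sub_eq]; exact e0)))
    obtain ⟨b, -, -, hb⟩ := hL.inv _ (add_mem (σ x).2 (σ y).2) h0
    refine hv01 (congrArg Subtype.val (show (⟨v0, hv0⟩ : V) = 1 from ?_))
    calc (⟨v0, hv0⟩ : V) = ev (b * ((σ x).1 + (σ y).1)) ⟨v0, hv0⟩ := by rw [hb]; rfl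
      _ = ev b (sc x * sc y) := rfl
      _ = 1 := by
        rw [e, show sc y * sc y = 1 from Subtype.ext (k.hyp.sq' (sc y).2)]
        exact congrArg Additive.toMul (map_zero b)
  have sc_surj : Function.Surjective sc :=
    ((Nat.bijective_iff_injective_and_card sc).2 ⟨sc_inj, by rw [GaloisField.card 2 n hn0, hn]⟩).2
  let e : GaloisField 2 n × GaloisField 2 n → G := fun z => (sc z.1 : G) * (e1.symm (sc z.2) : G)
  have sc0 : sc 0 = 1 := by
    show ev (σ 0).1 _ = 1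
    rw [map_zero]; rfl
  have hshear : ∀ (p : P) (a : GaloisField 2 n), (σ a).1 = A (Additive.ofMul p) →
      ∀ x y, (p : G) * e (x, y) * (p : G)⁻¹ = e (x + a * y, y) := by
    intro p a ha x y
    have h1 : sc (x + a * y) = sc x * φ p (e1.symm (sc y)) := by
      rw [sc_add, sc_mul, ha]; rfl
    show (p : G) * ((sc x : G) * (e1.symm (sc y) : G)) * (p : G)⁻¹ = (sc (x + a * y) : G) * (e1.symm (sc y) : G)
    rw [h1, Subgroup.coe_mul]
    show _ = (sc x : G) * ⁅(p : G), (e1.symm (sc y) : G)⁆ * (e1.symm (sc y) : G)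
    rw [show (p : G) * ((sc x : G) * (e1.symm (sc y) : G)) * (p : G)⁻¹ =
      ((p : G) * (sc x : G)) * (e1.symm (sc y) : G) * (p : G)⁻¹ by group, k.hyp.P_comm_V p.2 (sc x).2,
      commutatorElement_def]
    group
  have hshear' : ∀ (p : P') (b : GaloisField 2 n), (σ b).1 = B (Additive.ofMul p) →
      ∀ x y, (p : G) * e (x, y) * (p : G)⁻¹ = e (x, y + b * x) := by
    intro p b hb x y
    have h1 : e1.symm (sc (y + b * x)) = e1.symm (sc y) * ψ p (sc x) := by
      rw [sc_add, sc_mul, hb, map_mul]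
      exact congrArg _ (e1.symm_apply_apply _)
    show (p : G) * ((sc x : G) * (e1.symm (sc y) : G)) * (p : G)⁻¹ = (sc x : G) * (e1.symm (sc (y + b * x)) : G)
    rw [h1, Subgroup.coe_mul]
    show _ = (sc x : G) * ((e1.symm (sc y) : G) * ⁅(p : G), (sc x : G)⁆)
    have hc : (p : G) * (e1.symm (sc y) : G) = (e1.symm (sc y) : G) * p :=
      k.flip.hyp.P_comm_V p.2 (e1.symm (sc y)).2
    have hd : ⁅(p : G), (sc x : G)⁆ ∈ cj g V := (ψ p (sc x)).2
    rw [k.hyp.comm (e1.symm (sc y)).2 hd, ← mul_assoc (sc x : G), ← k.comm_V hd (sc x).2]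
    calc (p : G) * ((sc x : G) * (e1.symm (sc y) : G)) * (p : G)⁻¹
        = (p : G) * (sc x : G) * (p : G)⁻¹ * ((p : G) * (e1.symm (sc y) : G)) * (p : G)⁻¹ := by group
      _ = (p : G) * (sc x : G) * (p : G)⁻¹ * ((e1.symm (sc y) : G) * (p : G)) * (p : G)⁻¹ := by rw [hc]
      _ = _ := by simp only [commutatorElement_def]; group
  refine ⟨GaloisField 2 n, inferInstance, inferInstance, e, ?_, ?_, ?_, ?_, ?_, ?_, ?_, ?_, ?_⟩
  · rw [← Nat.card_eq_fintype_card, GaloisField.card 2 n hn0, hn]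
  · rintro ⟨x, y⟩ ⟨x', y'⟩
    show (sc (x + x') : G) * (e1.symm (sc (y + y')) : G) = _
    rw [sc_add, sc_add, map_mul, Subgroup.coe_mul, Subgroup.coe_mul]
    calc _ = (sc x : G) * ((sc x' : G) * (e1.symm (sc y) : G)) * (e1.symm (sc y') : G) := by group
      _ = (sc x : G) * ((e1.symm (sc y) : G) * (sc x' : G)) * (e1.symm (sc y') : G) := by
        rw [k.comm_V (e1.symm (sc y)).2 (sc x').2]
      _ = _ := by show _ = (sc x : G) * (e1.symm (sc y) : G) * ((sc x' : G) * (e1.symm (sc y') : G)); group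
  · rintro ⟨x, y⟩ ⟨x', y'⟩ he
    obtain ⟨a, b⟩ := k.split (sc x).2 (e1.symm (sc y)).2 (sc x').2 (e1.symm (sc y')).2 he
    exact Prod.ext (sc_inj (Subtype.ext a)) (sc_inj (e1.symm.injective (Subtype.ext b)))
  · intro w
    rw [k.mem_plane]
    constructor
    · rintro ⟨v, hv, t, ht, rfl⟩
      obtain ⟨x, hx⟩ := sc_surj ⟨v, hv⟩
      obtain ⟨y, hy⟩ := sc_surj (e1 ⟨t, ht⟩)
      refine ⟨(x, y), ?_⟩
      show (sc x : G) * (e1.symm (sc y) : G) = _
      rw [hx, hy, MulEquiv.symm_apply_apply]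
    · rintro ⟨z, rfl⟩
      exact ⟨_, (sc z.1).2, _, (e1.symm (sc z.2)).2, rfl⟩
  · intro w
    constructor
    · intro hw
      obtain ⟨x, hx⟩ := sc_surj ⟨w, hw⟩
      refine ⟨x, ?_⟩
      show (sc x : G) * (e1.symm (sc 0) : G) = w
      rw [hx, sc0, map_one]; exact mul_one w
    · rintro ⟨x, rfl⟩
      show (sc x : G) * (e1.symm (sc 0) : G) ∈ V
      rw [sc0, map_one]; exact mul_mem (sc x).2 (one_mem V)
  · exact fun p hp => ⟨σ.symm ⟨_, ⟨Additive.ofMul ⟨p, hp⟩, rfl⟩⟩,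
      hshear ⟨p, hp⟩ _ (by rw [σ.apply_symm_apply])⟩
  · exact fun p hp => ⟨σ.symm ⟨_, hBL _ ⟨Additive.ofMul ⟨p, hp⟩, rfl⟩⟩,
      hshear' ⟨p, hp⟩ _ (by rw [σ.apply_symm_apply])⟩
  · intro a
    obtain ⟨p, hp⟩ := (σ a).2
    exact ⟨_, p.toMul.2, hshear p.toMul a hp.symm⟩
  · intro b
    obtain ⟨p, hp⟩ := hLB _ (σ b).2
    exact ⟨_, p.toMul.2, hshear' p.toMul b hp.symm⟩

end Pair

end CfsgLib.Invol.TIPair
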