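import Cfsg.Agent.Lib.Invol.TIPair.Pair

/-!
# Symmetry: `V` lies in the conjugate of `Q`
-/

set_option autoImplicit false

namespace CfsgLib.Invol.TIPair

open Subgroup
open scoped commutatorElement

variable {G : Type*} [Group G]

theorem inf_centralizer_cj (x : G) (Q V : Subgroup G) :
    cj x (Q ⊓ centralizer (V : Set G)) = cj x Q ⊓ centralizer ((cj x V : Subgroup G) : Set G) := by
  ext w
  simp only [mem_cj, mem_inf, mem_centralizer_iff]
  refine and_congr_right fun _ => ⟨fun hw v hv => ?_, fun hw v hv => ?_⟩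
  · have e := hw _ (mem_cj.1 hv)
    calc v * w = x * ((x⁻¹ * v * x) * (x⁻¹ * w * x)) * x⁻¹ := by group
      _ = x * (x⁻¹ * w * x * (x⁻¹ * v * x)) * x⁻¹ := by rw [e]
      _ = w * v := by group
  · have e := hw _ (conj_mem_cj (x := x) hv)
    calc v * (x⁻¹ * w * x) = x⁻¹ * ((x * v * x⁻¹) * w) * x := by group
      _ = x⁻¹ * (w * (x * v * x⁻¹)) * x := by rw [e]
      _ = x⁻¹ * w * x * v := by group

/-- An element of odd order is a power of its square. -/
theorem mem_zpowers_sq [Finite G] {x : G} (hx : Odd (orderOf x)) : x ∈ zpowers (x * x) := by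
  obtain ⟨m, hm⟩ := hx
  exact mem_zpowers_iff.2 ⟨(m + 1 : ℕ), by
    rw [zpow_natCast, ← pow_two, ← pow_mul, show 2 * (m + 1) = orderOf x + 1 by omega, pow_succ,
      pow_orderOf_eq_one, one_mul]⟩

theorem le_or_le {S C D : Subgroup G} (h : ∀ x ∈ S, x ∈ C ∨ x ∈ D) : S ≤ C ∨ S ≤ D := by
  by_contra hne
  rw [not_or, SetLike.not_le_iff_exists, SetLike.not_le_iff_exists] at hne
  obtain ⟨⟨x, hxS, hxC⟩, ⟨y, hyS, hyD⟩⟩ := hne
  have hxD := (h x hxS).resolve_left hxC
  have hyC := (h y hyS).resolve_right hyD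
  rcases h _ (mul_mem hxS hyS) with h' | h'
  · exact hxC (by simpa using mul_mem h' (inv_mem hyC))
  · exact hyD (by simpa using mul_mem (inv_mem hxD) h')

variable [Finite G] {V Q : Subgroup G}

namespace Hyp

/-- The normal `2`-subgroup stabilizing the series `Q ≥ P ≥ 1`. -/
theorem mem_Q_of_series (k : Hyp V Q) {v : G} (hv : v ∈ centralizer (V : Set G))
    (hP : ∀ a ∈ Q ⊓ centralizer (V : Set G), v * a = a * v) : v ∈ Q := by
  set P := Q ⊓ centralizer (V : Set G) with hPdef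
  set M := normalizer (V : Set G)
  have hvM : v ∈ M := mem_normalizer_of_le fun a ha => by
    rw [← mem_centralizer_iff.1 hv a ha, mul_inv_cancel_right]; exact ha
  let K : Subgroup G :=
    { carrier := {x | x ∈ M ∧ (∀ a ∈ P, x * a = a * x) ∧ ∀ q ∈ Q, ⁅x, q⁆ ∈ P}
      one_mem' := ⟨one_mem _, fun a _ => by simp, fun q _ => by rw [commutatorElement_one_left]; exact one_mem _⟩
      mul_mem' := by
        rintro a b ⟨ha, ha1, ha2⟩ ⟨hb, hb1, hb2⟩
        refine ⟨mul_mem ha hb, fun c hc => ?_, fun q hq => ?_⟩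
        · rw [mul_assoc, hb1 c hc, ← mul_assoc, ha1 c hc, mul_assoc]
        · rw [show ⁅a * b, q⁆ = a * ⁅b, q⁆ * a⁻¹ * ⁅a, q⁆ by simp only [commutatorElement_def]; group,
            ha1 _ (hb2 q hq), mul_inv_cancel_right]
          exact mul_mem (hb2 q hq) (ha2 q hq)
      inv_mem' := by
        rintro a ⟨ha, ha1, ha2⟩
        refine ⟨inv_mem ha, fun c hc => ?_, fun q hq => ?_⟩
        · calc a⁻¹ * c = a⁻¹ * (c * a) * a⁻¹ := by group
            _ = a⁻¹ * (a * c) * a⁻¹ := by rw [ha1 c hc]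
            _ = c * a⁻¹ := by group
        · rw [show ⁅a⁻¹, q⁆ = a⁻¹ * ⁅a, q⁆⁻¹ * a by simp only [commutatorElement_def]; group,
            mul_assoc, ← ha1 _ (inv_mem (ha2 q hq)), inv_mul_cancel_left]
          exact inv_mem (ha2 q hq) }
  have hv2 : ∀ q ∈ Q, ⁅v, q⁆ ∈ P := fun q hq => by
    refine ⟨?_, mem_centralizer_iff.2 fun t ht => ?_⟩
    · show ⁅v, q⁆ ∈ Q
      rw [commutatorElement_def]; exact mul_mem (k.nrm v hvM q hq) (inv_mem hq)
    · have hq' := k.le hq
      have ht' : q⁻¹ * t * q ∈ V := by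
        have := (mem_normalizer_iff.1 (inv_mem hq') t).1 ht
        rwa [inv_inv] at this
      have e1 := mem_centralizer_iff.1 (show v⁻¹ ∈ centralizer (V : Set G) from inv_mem hv) _ ht'
      have e2 : q * v⁻¹ * q⁻¹ * t = t * (q * v⁻¹ * q⁻¹) := by
        calc q * v⁻¹ * q⁻¹ * t = q * (v⁻¹ * (q⁻¹ * t * q)) * q⁻¹ := by group
          _ = q * ((q⁻¹ * t * q) * v⁻¹) * q⁻¹ := by rw [e1]
          _ = t * (q * v⁻¹ * q⁻¹) := by group
      calc t * ⁅v, q⁆ = t * v * (q * v⁻¹ * q⁻¹) := by rw [commutatorElement_def]; group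
        _ = v * (t * (q * v⁻¹ * q⁻¹)) := by rw [mem_centralizer_iff.1 hv t ht]; group
        _ = ⁅v, q⁆ * t := by rw [← e2, commutatorElement_def]; group
  refine k.core K (fun x hx => hx.1) ?_ ?_ ⟨hvM, hP, hv2⟩
  · intro x
    obtain ⟨j, m, hm, hjm⟩ := Nat.exists_eq_two_pow_mul_odd (orderOf_pos (x : G)).ne'
    refine ⟨j, Subtype.ext ?_⟩
    rw [SubmonoidClass.coe_pow, OneMemClass.coe_one]
    obtain ⟨hzM, hz1, hz2⟩ : ((x : G) ^ 2 ^ j) ∈ K := pow_mem x.2 _
    set z := (x : G) ^ 2 ^ j with hz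
    have hzm : z ^ m = 1 := by rw [hz, ← pow_mul, ← hjm, pow_orderOf_eq_one]
    have hcen : ∀ q ∈ Q, z * q = q * z := by
      intro q hq
      set c := ⁅z, q⁆ with hc
      have hcP : c ∈ P := hz2 q hq
      have hpow : ∀ i : ℕ, z ^ i * q * (z ^ i)⁻¹ = c ^ i * q := by
        intro i
        induction i with
        | zero => simp
        | succ i ih =>
          calc z ^ (i + 1) * q * (z ^ (i + 1))⁻¹ = z * (z ^ i * q * (z ^ i)⁻¹) * z⁻¹ := by rw [pow_succ']; group
            _ = z * c ^ i * q * z⁻¹ := by rw [ih]; group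
            _ = c ^ i * (z * q * z⁻¹) := by rw [hz1 _ (pow_mem hcP i)]; group
            _ = c ^ i * (c * q) := by rw [hc, commutatorElement_def]; group
            _ = c ^ (i + 1) * q := by rw [pow_succ, mul_assoc]
      have h1 := hpow m
      rw [hzm, one_mul, inv_one, mul_one] at h1
      have hcm : c ^ m = 1 := mul_eq_right.1 h1.symm
      obtain ⟨i, hi⟩ := (k.pgroup.to_le inf_le_left) ⟨c, hcP⟩
      have hci : c ^ 2 ^ i = 1 := congrArg Subtype.val hi
      have hc1 : c = 1 := by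
        have hcop : Nat.Coprime (2 ^ i) m := Nat.Coprime.pow_left _ (Nat.coprime_two_left.2 hm)
        exact orderOf_eq_one_iff.1 (Nat.eq_one_of_dvd_coprimes hcop (orderOf_dvd_of_pow_eq_one hci)
          (orderOf_dvd_of_pow_eq_one hcm))
      exact commutatorElement_eq_one_iff_mul_comm.1 hc1
    obtain ⟨i, hi⟩ := k.pgroup ⟨z, k.self z hzM hcen⟩
    have hzi : z ^ 2 ^ i = 1 := congrArg Subtype.val hi
    have hcop : Nat.Coprime (2 ^ i) m := Nat.Coprime.pow_left _ (Nat.coprime_two_left.2 hm)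
    exact orderOf_eq_one_iff.1 (Nat.eq_one_of_dvd_coprimes hcop (orderOf_dvd_of_pow_eq_one hzi)
      (orderOf_dvd_of_pow_eq_one hzm))
  · rintro m hm a ⟨haM, ha1, ha2⟩
    refine ⟨mul_mem (mul_mem hm haM) (inv_mem hm), fun c hc => ?_, fun q hq => ?_⟩
    · have hc' := k.nrm_P (inv_mem hm) hc
      rw [inv_inv] at hc'
      calc m * a * m⁻¹ * c = m * (a * (m⁻¹ * c * m)) * m⁻¹ := by group
        _ = m * (m⁻¹ * c * m * a) * m⁻¹ := by rw [ha1 _ hc']
        _ = c * (m * a * m⁻¹) := by group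
    · have hq' := k.nrm _ (inv_mem hm) q hq
      rw [inv_inv] at hq'
      rw [show ⁅m * a * m⁻¹, q⁆ = m * ⁅a, m⁻¹ * q * m⁆ * m⁻¹ by simp only [commutatorElement_def]; group]
      exact k.nrm_P hm (ha2 _ hq')

end Hyp

namespace Side

variable {g h : G} (s : Side V Q g h)
include s

/-- A shift inside the plane gives the symmetry. -/
theorem shift {a v v0 t0 : G} (ha : a ∈ normalizer ((cj g V : Subgroup G) : Set G)) (hv : v ∈ V)
    (hv0 : v0 ∈ V) (ht0 : t0 ∈ cj g V) (hv1 : v0 ≠ 1) (ht1 : t0 ≠ 1) (e : a * v * a⁻¹ = v0 * t0) :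
    V ≤ cj g Q := by
  have k := s.left.hyp
  obtain ⟨u, hu, hut⟩ := s.bij ht0 ht1 v0 hv0
  have hu1 : u ≠ 1 := fun e1 => hv1 (by rw [← hut, e1, commutatorElement_one_right])
  have hw : u * t0 * u⁻¹ = v0 * t0 := by
    rw [← hut, k.comm_symm (s.left.le_P ht0) (s.right.le_P hu), commutatorElement_def]; group
  have hw1 : v0 * t0 ≠ 1 := fun e1 => hv1 (s.left.disj hv0 (by
    rw [eq_inv_of_mul_eq_one_left e1]; exact inv_mem ht0))
  have heq : cj a V = cj (u * g) V := k.ti _ _ _ hw1 (e ▸ conj_mem_cj hv)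
    (hw ▸ by rw [← cj_mul]; exact conj_mem_cj ht0)
  have hc : (u * g)⁻¹ * a ∈ normalizer (V : Set G) := by
    rw [← cj_eq_self_iff, ← cj_mul, heq, cj_mul, inv_mul_cancel, cj_one]
  have hQeq : cj a Q = cj (u * g) Q := by
    conv_rhs => rw [← cj_eq_self_iff.2 (mem_normalizer_of_le (k.nrm _ hc))]
    rw [cj_mul, mul_inv_cancel_left]
  have h1 : cj g V ≤ cj (u * g) Q := by
    calc cj g V = cj a (cj g V) := (cj_eq_self_iff.2 ha).symm
      _ ≤ cj a Q := cj_mono s.left.sub
      _ = _ := hQeq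
  intro w hwV
  obtain ⟨t, ht, htw⟩ := s.bij' hu hu1 w hwV
  have h2 := h1 ht
  rw [← cj_mul, mem_cj] at h2
  have h3 : t ∈ cj g Q := cj_mono k.V_le ht
  have h4 := mul_mem h3 h2
  rwa [show t * (u⁻¹ * t * u) = w by
    rw [← htw, commutatorElement_def, k.inv_eq hu, k.inv_eq ht]; group] at h4

/-- Symmetry. -/
theorem V_le_conj : V ≤ cj g Q := by
  classical
  by_contra hn
  have k := s.left.hyp
  have k' : Hyp (cj g V) (cj g Q) := k.conj g
  set P := Q ⊓ centralizer (V : Set G) with hPdef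
  set P' := cj g Q ⊓ centralizer ((cj g V : Subgroup G) : Set G) with hP'def
  have hVM : ∀ v ∈ V, v ∈ normalizer ((cj g V : Subgroup G) : Set G) := fun v hv =>
    mem_normalizer_of_le fun t ht => by rwa [← s.left.comm_V ht hv, mul_inv_cancel_right]
  have hVP' : ∀ v ∈ V, ∀ a ∈ P', v * a * v⁻¹ ∈ P' := fun v hv a ha => k'.nrm_P (hVM v hv) ha
  have hV'P' : ∀ t ∈ cj g V, t ∈ P' := fun t ht => k'.V_le_P ht
  have hshift : ∀ a ∈ P', ∀ v ∈ V, ⁅a, v⁆ ∈ cj g V → a * v = v * a := by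
    intro a ha v hv hav
    by_contra hne
    have hv1 : v ≠ 1 := fun e => hne (by rw [e, one_mul, mul_one])
    have ht1 : ⁅a, v⁆ ≠ 1 := fun e => hne (commutatorElement_eq_one_iff_mul_comm.1 e)
    exact hn (s.shift (k'.le ha.1) hv hv hav hv1 ht1
      (by rw [← s.left.comm_V hav hv, commutatorElement_def]; group))
  have hD : ∀ v ∈ V, v ∈ cj g Q → v = 1 := by
    intro v hv hvQ
    have hvP' : v ∈ P' := ⟨hvQ, mem_centralizer_iff.2 fun t ht => s.left.comm_V ht hv⟩
    refine s.left.disj hv (k'.center_le hvP' fun a ha => ?_)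
    exact (hshift a ha v hv (k'.comm_mem ha hvP')).symm
  have hX1 : ∀ a ∈ P', ∀ v ∈ V, v ≠ 1 → a * v = v * a → ∀ w ∈ V, a * w = w * a := by
    intro a ha v hv hv1 hc w hw
    refine commutatorElement_eq_one_iff_mul_comm.1 (hD _ ?_ ?_)
    · have := k.conj_mem_of_commute (x := 1) (w := v) (a := w) (by rwa [cj_one]) hv1 hc (by rwa [cj_one])
      rw [cj_one] at this
      rw [commutatorElement_def]; exact mul_mem this (inv_mem hw)
    · refine (?_ : ⁅a, w⁆ ∈ P').1
      rw [commutatorElement_def, mul_assoc a, mul_assoc a]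
      exact mul_mem ha (hVP' w hw _ (inv_mem ha))
  let FX : G → Prop := fun a => a ∈ P' ∧ ∀ v ∈ V, a * v = v * a
  -- the displacement
  have hy : ∀ a ∈ P', ∀ v ∈ V, v ≠ 1 → FX ⁅a, v⁆ ∧ (∀ b, FX b → ⁅a, v⁆ * b = b * ⁅a, v⁆) := by
    intro a ha v hv hv1
    have hyP : ⁅a, v⁆ ∈ P' := by
      rw [commutatorElement_def, mul_assoc a, mul_assoc a]
      exact mul_mem ha (hVP' v hv _ (inv_mem ha))
    have hvv := k.inv_eq' hv
    refine ⟨⟨hyP, hX1 _ hyP v hv hv1 (hshift _ hyP v hv ?_)⟩, fun b hb => ?_⟩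
    · have e : ⁅⁅a, v⁆, v⁆ = ⁅a, v⁆ * ⁅a, v⁆ := by
        calc ⁅⁅a, v⁆, v⁆ = ⁅a, v⁆ * ((v * v) * a * v⁻¹ * a⁻¹ * v⁻¹) := by
              simp only [commutatorElement_def]; group
          _ = ⁅a, v⁆ * (a * v * a⁻¹ * v⁻¹) := by rw [k.sq' hv, one_mul, hvv]
      rw [e]; exact k'.sq_mem hyP
    · have h2 : ⁅v * a * v⁻¹, b⁆ = ⁅a, b⁆ := by
        have hc : v * ⁅a, b⁆ * v⁻¹ = ⁅a, b⁆ := by
          rw [← s.left.comm_V (k'.comm_mem ha hb.1) hv, mul_inv_cancel_right]
        have hvb : v * b * v⁻¹ = b := by rw [← hb.2 v hv, mul_inv_cancel_right]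
        conv_rhs => rw [← hc]
        conv_lhs => rw [← hvb]
        simp only [commutatorElement_def]; group
      have e : v * a * v⁻¹ = ⁅a, v⁆⁻¹ * a := by simp only [commutatorElement_def]; group
      rw [e, k'.comm_mul_left (inv_mem hyP) ha hb.1] at h2
      have h3 := commutatorElement_eq_one_iff_mul_comm.1 (mul_eq_right.1 h2)
      calc ⁅a, v⁆ * b = ⁅a, v⁆ * (b * ⁅a, v⁆⁻¹) * ⁅a, v⁆ := by group
        _ = ⁅a, v⁆ * (⁅a, v⁆⁻¹ * b) * ⁅a, v⁆ := by rw [h3]
        _ = b * ⁅a, v⁆ := by group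
  -- what centralizes the fixed points is fixed
  have hK : ∀ c ∈ P', (∀ b, FX b → c * b = b * c) → FX c := by
    intro c hc hcX
    refine ⟨hc, fun v hv => ?_⟩
    by_cases hv1 : v = 1
    · rw [hv1, one_mul, mul_one]
    obtain ⟨hxF, hxX⟩ := hy c hc v hv hv1
    set x := ⁅c, v⁆ with hx
    refine hshift c hc v hv ?_
    rw [← hx, ← inv_mem_iff]
    refine k'.center_le (inv_mem hxF.1) fun a ha => ?_
    obtain ⟨hyF, hyX⟩ := hy a ha v hv hv1
    set y := ⁅a, v⁆ with hy'
    have h1 : ⁅v * c * v⁻¹, v * a * v⁻¹⁆ = ⁅c, a⁆ := by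
      have hh : v * ⁅c, a⁆ * v⁻¹ = ⁅c, a⁆ := by
        rw [← s.left.comm_V (k'.comm_mem hc ha) hv, mul_inv_cancel_right]
      conv_rhs => rw [← hh]
      simp only [commutatorElement_def]; group
    have ec : v * c * v⁻¹ = x⁻¹ * c := by rw [hx]; simp only [commutatorElement_def]; group
    have ea : v * a * v⁻¹ = y⁻¹ * a := by rw [hy']; simp only [commutatorElement_def]; group
    have hyinv : FX y⁻¹ := ⟨inv_mem hyF.1, fun w hw => by
      calc y⁻¹ * w = y⁻¹ * (w * y) * y⁻¹ := by group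
        _ = y⁻¹ * (y * w) * y⁻¹ := by rw [hyF.2 w hw]
        _ = w * y⁻¹ := by group⟩
    have hxy : x⁻¹ * y⁻¹ = y⁻¹ * x⁻¹ := by
      have e := hxX _ hyinv
      calc x⁻¹ * y⁻¹ = x⁻¹ * (y⁻¹ * x) * x⁻¹ := by group
        _ = x⁻¹ * (x * y⁻¹) * x⁻¹ := by rw [e]
        _ = y⁻¹ * x⁻¹ := by group
    rw [ec, ea, k'.comm_mul_left (inv_mem hxF.1) hc (mul_mem (inv_mem hyF.1) ha),
      k'.comm_mul_right (inv_mem hxF.1) (inv_mem hyF.1) ha,
      k'.comm_mul_right hc (inv_mem hyF.1) ha, commutatorElement_eq_one_iff_mul_comm.2 hxy,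
      commutatorElement_eq_one_iff_mul_comm.2 (hcX _ hyinv), one_mul, one_mul] at h1
    exact commutatorElement_eq_one_iff_mul_comm.1 (mul_eq_right.1 h1)
  -- enough: everything is fixed
  have hfin : (∀ a ∈ P', ∀ v ∈ V, a * v = v * a) → False := by
    intro hall
    exact hn fun v hv => k'.mem_Q_of_series
      (mem_centralizer_iff.2 fun t ht => s.left.comm_V ht hv) fun a ha => (hall a ha v hv).symm
  -- `R` is abelian
  have hRab : ∀ r ∈ P, (∀ t ∈ cj g V, r * t = t * r) → ∀ r' ∈ P, (∀ t ∈ cj g V, r' * t = t * r') →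
      r * r' = r' * r := by
    intro r hr hrt r' hr' hrt'
    by_contra hne
    refine hfin fun z hz w hw => ?_
    set v := ⁅r, r'⁆ with hv
    have hvV : v ∈ V := k.comm_mem hr hr'
    have hv1 : v ≠ 1 := fun e => hne (commutatorElement_eq_one_iff_mul_comm.1 e)
    refine hX1 z hz v hvV hv1 ?_ w hw
    have hnorm : ∀ x ∈ P, (∀ t ∈ cj g V, x * t = t * x) → ∀ a ∈ P', x * a * x⁻¹ ∈ P' := fun x hx hxt a ha =>
      k'.nrm_P (mem_normalizer_of_le fun t ht => by rwa [hxt t ht, mul_inv_cancel_right]) ha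
    have he : ∀ x ∈ P, (∀ t ∈ cj g V, x * t = t * x) → ∀ b, FX b → ⁅x, b⁆ ∈ cj g V := by
      intro x hx hxt b hb
      have hbM : b ∈ normalizer (V : Set G) := mem_normalizer_of_le fun a ha => by
        rwa [hb.2 a ha, mul_inv_cancel_right]
      have h1 : ⁅x, b⁆ ∈ P := by
        rw [commutatorElement_def, mul_assoc x, mul_assoc x]
        exact mul_mem hx (k.nrm_P hbM (inv_mem hx))
      have h2 : ⁅x, b⁆ ∈ P' := by
        rw [commutatorElement_def]; exact mul_mem (hnorm x hx hxt b hb.1) (inv_mem hb.1)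
      have h3 : ⁅x, b⁆ ∈ plane V g := s.mem_plane_of_comm h1 fun y hy hyt => by
        refine commutatorElement_eq_one_iff_mul_comm.1 (hD _ (k.comm_mem h1 hy) ?_)
        refine (?_ : ⁅⁅x, b⁆, y⁆ ∈ P').1
        rw [commutatorElement_def, mul_assoc ⁅x, b⁆, mul_assoc ⁅x, b⁆]
        exact mul_mem h2 (hnorm y hy hyt _ (inv_mem h2))
      obtain ⟨a, ha, t, ht, e⟩ := s.left.mem_plane.1 h3
      have ha' : a ∈ P' := by
        rw [show a = ⁅x, b⁆ * t⁻¹ by rw [e]; group]
        exact mul_mem h2 (inv_mem (hV'P' t ht))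
      rw [e, hD a ha ha'.1, one_mul]; exact ht
    have hyr : ∀ x ∈ P, (∀ t ∈ cj g V, x * t = t * x) → ∀ y ∈ P',
        FX ⁅x, y⁆ ∧ ∀ b, FX b → ⁅x, y⁆ * b = b * ⁅x, y⁆ := by
      intro x hx hxt y hyP
      have hc : ⁅x, y⁆ ∈ P' := by
        rw [commutatorElement_def]; exact mul_mem (hnorm x hx hxt y hyP) (inv_mem hyP)
      have hcb : ∀ b, FX b → ⁅x, y⁆ * b = b * ⁅x, y⁆ := by
        intro b hb
        have hb' := he x hx hxt b hb
        have h1 : ⁅x * y * x⁻¹, x * b * x⁻¹⁆ = ⁅y, b⁆ := by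
          have hh : x * ⁅y, b⁆ * x⁻¹ = ⁅y, b⁆ := by rw [hxt _ (k'.comm_mem hyP hb.1), mul_inv_cancel_right]
          conv_rhs => rw [← hh]
          simp only [commutatorElement_def]; group
        have e1 : x * y * x⁻¹ = ⁅x, y⁆ * y := by simp only [commutatorElement_def]; group
        have e2 : x * b * x⁻¹ = ⁅x, b⁆ * b := by simp only [commutatorElement_def]; group
        have hcen : ∀ w ∈ P', ⁅w, ⁅x, b⁆⁆ = 1 := fun w hw' =>
          commutatorElement_eq_one_iff_mul_comm.2 (k'.P_comm_V hw' hb')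
        rw [e1, e2, k'.comm_mul_left hc hyP (mul_mem (hV'P' _ hb') hb.1),
          k'.comm_mul_right hc (hV'P' _ hb') hb.1, k'.comm_mul_right hyP (hV'P' _ hb') hb.1,
          hcen _ hc, hcen _ hyP, one_mul, one_mul] at h1
        exact commutatorElement_eq_one_iff_mul_comm.1 (mul_eq_right.1 h1)
      exact ⟨hK _ hc hcb, hcb⟩
    refine hshift z hz v hvV ?_
    rw [← commutatorElement_inv, inv_mem_iff]
    set y := (r' * r)⁻¹ * z * (r' * r) with hydef
    have hyP : y ∈ P' := by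
      have := hnorm _ (inv_mem (mul_mem hr' hr)) (fun t ht => by
        have e : r' * r * t = t * (r' * r) := by rw [mul_assoc, hrt t ht, ← mul_assoc, hrt' t ht, mul_assoc]
        calc (r' * r)⁻¹ * t = (r' * r)⁻¹ * (t * (r' * r)) * (r' * r)⁻¹ := by group
          _ = t * (r' * r)⁻¹ := by rw [← e]; group) z hz
      rwa [inv_inv] at this
    obtain ⟨hAF, hAX⟩ := hyr r hr hrt y hyP
    obtain ⟨hBF, hBX⟩ := hyr r' hr' hrt' y hyP
    set α := ⁅r, y⁆ with hα
    set β := ⁅r', y⁆ with hβ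
    have h1 := he r hr hrt β hBF
    have h2 := he r' hr' hrt' α hAF
    set ε := ⁅r, β⁆ with hε
    set δ := ⁅r', α⁆ with hδ
    have e1 : r * r' * y * (r * r')⁻¹ = ε * β * α * y := by
      rw [hε, hβ, hα]; simp only [commutatorElement_def]; group
    have e2 : z = δ * α * β * y := by
      rw [hδ, hβ, hα, hydef]; simp only [commutatorElement_def]; group
    have e3 : v * z * v⁻¹ = r * r' * y * (r * r')⁻¹ := by
      rw [hv, hydef]; simp only [commutatorElement_def]; group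
    rw [commutatorElement_def, e3, e1, e2]
    have := mul_mem h1 (inv_mem h2)
    convert this using 1
    calc ε * β * α * y * (δ * α * β * y)⁻¹ = ε * (β * α) * (α * β)⁻¹ * δ⁻¹ := by group
      _ = ε * δ⁻¹ := by rw [hBX α hAF]; group
  -- the plane case
  have hplane : ∀ p ∈ P, ∃ a ∈ plane V g, ∃ b ∈ cj h V, p = a * b := by
    intro p hp
    obtain ⟨u, hu, hpu⟩ := s.exists_cancel hp
    exact ⟨p * u, s.mem_plane_of_comm (mul_mem hp (s.right.le_P hu))
      (fun r hr hrt => hRab _ (mul_mem hp (s.right.le_P hu)) hpu r hr hrt), u, hu,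
      by rw [mul_assoc, k.sq hu, mul_one]⟩
  have hiv : ∀ a ∈ plane V g, ∀ b ∈ plane V h, a * b = b * a → a ∈ V ∨ b ∈ V := by
    intro a ha b hb hab
    obtain ⟨v, hv, t, ht, rfl⟩ := s.left.mem_plane.1 ha
    obtain ⟨v', hv', u, hu, rfl⟩ := s.right.mem_plane.1 hb
    by_cases hu1 : u = 1
    · right; rwa [hu1, mul_one]
    left
    have h1 : ⁅v * t, v' * u⁆ = 1 := commutatorElement_eq_one_iff_mul_comm.2 hab
    have hvP := k.V_le_P hv
    have hv'P := k.V_le_P hv'
    have hz : ∀ w ∈ V, ∀ p ∈ P, ⁅w, p⁆ = 1 := fun w hw p hp =>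
      commutatorElement_eq_one_iff_mul_comm.2 (k.P_comm_V hp hw).symm
    rw [k.comm_mul_left hvP (s.left.le_P ht) (mul_mem hv'P (s.right.le_P hu)),
      k.comm_mul_right (s.left.le_P ht) hv'P (s.right.le_P hu), hz v hv _ (mul_mem hv'P (s.right.le_P hu)),
      k.comm_symm (s.left.le_P ht) hv'P, hz v' hv' _ (s.left.le_P ht), one_mul, one_mul] at h1
    rw [s.eq_one ht hu hu1 (commutatorElement_eq_one_iff_mul_comm.1 h1), mul_one]
    exact hv
  have hinv : ∀ y ∈ P, y * y = 1 → y ∈ plane V g ∨ y ∈ plane V h := by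
    intro y hyP hyy
    obtain ⟨a, ha, u, hu, rfl⟩ := hplane y hyP
    have hua : a * u = u * a := by
      have e1 : a⁻¹ = a := by
        obtain ⟨v, hv, t, ht, rfl⟩ := s.left.mem_plane.1 ha
        rw [mul_inv_rev, k.inv_eq ht, k.inv_eq' hv, s.left.comm_V ht hv]
      calc a * u = (a * u) * (a * u) * (u⁻¹ * a⁻¹) := by group
        _ = u * a := by rw [hyy, one_mul, k.inv_eq hu, e1]
    rcases hiv a ha u (mem_sup_right hu) hua with h' | h'
    · exact Or.inr (mul_mem (mem_sup_left h') (mem_sup_right hu))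
    · exact Or.inl (mul_mem ha (mem_sup_left h'))
  have hsqp : ∀ f, Pair V Q f → ∀ a ∈ plane V f, a * a = 1 := by
    intro f hf a ha
    obtain ⟨v, hv, t, ht, rfl⟩ := hf.mem_plane.1 ha
    calc v * t * (v * t) = v * (t * v) * t := by group
      _ = v * v * (t * t) := by rw [hf.comm_V ht hv]; group
      _ = 1 := by rw [k.sq' hv, k.sq ht, one_mul]
  have hUne : ¬ plane V h ≤ plane V g := by
    intro hle
    obtain ⟨u, hu, hu1⟩ := s.symm.exists_ne_one
    rcases hiv u (hle (mem_sup_right hu)) u (mem_sup_right hu) rfl with h' | h' <;>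
      exact hu1 (s.right.disj h' hu)
  have hTne : ¬ plane V g ≤ plane V h := by
    intro hle
    obtain ⟨t, ht, ht1⟩ := s.exists_ne_one
    rcases hiv t (mem_sup_right ht) t (hle (mem_sup_right ht)) rfl with h' | h' <;>
      exact ht1 (s.left.disj h' ht)
  set A := cj g (plane V g) with hA
  set B := cj g (plane V h) with hB
  have hP'eq : cj g P = P' := inf_centralizer_cj g Q V
  have hAP : A ≤ P' := hP'eq ▸ cj_mono s.left.plane_le_P
  have hBP : B ≤ P' := hP'eq ▸ cj_mono s.right.plane_le_P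
  have hiv' : ∀ a ∈ A, ∀ b ∈ B, a * b = b * a → a ∈ cj g V ∨ b ∈ cj g V := by
    intro a ha b hb hab
    rw [hA, mem_cj] at ha
    rw [hB, mem_cj] at hb
    rw [mem_cj, mem_cj]
    exact hiv _ ha _ hb (by
      calc g⁻¹ * a * g * (g⁻¹ * b * g) = g⁻¹ * (a * b) * g := by group
        _ = g⁻¹ * (b * a) * g := by rw [hab]
        _ = g⁻¹ * b * g * (g⁻¹ * a * g) := by group)
  have hstab : ∀ v ∈ V, ∀ S, (S = A ∨ S = B) → cj v S ≤ A ∨ cj v S ≤ B := by
    intro v hv S hS
    refine le_or_le fun x hx => ?_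
    have hS2 : S ≤ P' ∧ ∀ a ∈ S, a * a = 1 := by
      rcases hS with rfl | rfl
      · refine ⟨hAP, fun a ha => ?_⟩
        have := hsqp g s.left _ (mem_cj.1 ha)
        calc a * a = g * (g⁻¹ * a * g * (g⁻¹ * a * g)) * g⁻¹ := by group
          _ = 1 := by rw [this]; group
      · refine ⟨hBP, fun a ha => ?_⟩
        have := hsqp h s.right _ (mem_cj.1 ha)
        calc a * a = g * (g⁻¹ * a * g * (g⁻¹ * a * g)) * g⁻¹ := by group
          _ = 1 := by rw [this]; group
    have hx' := mem_cj.1 hx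
    have hxP : x ∈ P' := by
      have := hVP' v hv _ (hS2.1 hx')
      rwa [show v * (v⁻¹ * x * v) * v⁻¹ = x by group] at this
    have hxx : x * x = 1 := by
      calc x * x = v * (v⁻¹ * x * v * (v⁻¹ * x * v)) * v⁻¹ := by group
        _ = 1 := by rw [hS2.2 _ hx']; group
    rw [← hP'eq, mem_cj] at hxP
    rw [hA, hB, mem_cj, mem_cj]
    refine hinv _ hxP ?_
    calc g⁻¹ * x * g * (g⁻¹ * x * g) = g⁻¹ * (x * x) * g := by group
      _ = 1 := by rw [hxx]; group
  have hBA : ¬ B ≤ A := fun hle => hUne fun x hx => by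
    have := hle (conj_mem_cj (x := g) hx)
    rw [hA, mem_cj] at this; simpa [mul_assoc] using this
  have hAB : ¬ A ≤ B := fun hle => hTne fun x hx => by
    have := hle (conj_mem_cj (x := g) hx)
    rw [hB, mem_cj] at this; simpa [mul_assoc] using this
  have hinvl : ∀ v ∈ V, ∀ S T : Subgroup G, cj v S ≤ T → S ≤ cj v T := by
    intro v hv S T hle x hx
    rw [mem_cj, k.inv_eq' hv]
    have := hle (conj_mem_cj (x := v) hx)
    rwa [k.inv_eq' hv] at this
  have hswap : ∀ v ∈ V, v ≠ 1 → cj v A ≤ B ∧ cj v B ≤ A := by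
    intro v hv hv1
    rcases hstab v hv A (Or.inl rfl) with hvA | hvA
    · exfalso
      have hvB : cj v B ≤ B := (hstab v hv B (Or.inr rfl)).resolve_left fun hle =>
        hBA ((hinvl v hv B A hle).trans hvA)
      have fix1 : ∀ S T : Subgroup G, S ≤ P' → T ≤ P' → cj v S ≤ S → cj v T ≤ T →
          (∀ a ∈ S, ∀ b ∈ T, a * b = b * a → a ∈ cj g V ∨ b ∈ cj g V) →
          (¬ ∀ b ∈ T, b ∈ cj g V) → ∀ a ∈ S, ∀ w ∈ V, a * w = w * a := by
        intro S T hSP hTP hS hT hst hnT a ha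
        refine hX1 a (hSP ha) v hv hv1 (hshift a (hSP ha) v hv ?_)
        by_contra hyV
        have hyS : ⁅a, v⁆ ∈ S := by
          rw [commutatorElement_def, mul_assoc a, mul_assoc a]
          exact mul_mem ha (hS (conj_mem_cj (inv_mem ha)))
        obtain ⟨hyF, hyX⟩ := hy a (hSP ha) v hv hv1
        refine hnT fun b hb => ?_
        obtain ⟨hzF, hzX⟩ := hy b (hTP hb) v hv hv1
        have hzT : ⁅b, v⁆ ∈ T := by
          rw [commutatorElement_def, mul_assoc b, mul_assoc b]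
          exact mul_mem hb (hT (conj_mem_cj (inv_mem hb)))
        have hb1 := (hst _ hyS _ hzT (hyX _ hzF)).resolve_left hyV
        exact (hst _ hyS b hb (hyX b ⟨hTP hb, hX1 b (hTP hb) v hv hv1 (hshift b (hTP hb) v hv hb1)⟩)).resolve_left hyV
      have hVA : cj g V ≤ A := cj_mono le_sup_left
      have hVB : cj g V ≤ B := cj_mono le_sup_left
      have fA := fix1 A B hAP hBP hvA hvB hiv' (fun hall => hBA fun b hb => hVA (hall b hb))
      have fB := fix1 B A hBP hAP hvB hvA (fun a ha b hb hab => (hiv' b hb a ha hab.symm).symm)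
        (fun hall => hAB fun a ha => hVB (hall a ha))
      refine hfin fun x hx w hw => ?_
      rw [← hP'eq, mem_cj] at hx
      obtain ⟨a, ha, b, hb, e⟩ := hplane _ hx
      have hx' : x = g * a * g⁻¹ * (g * b * g⁻¹) := by
        calc x = g * (g⁻¹ * x * g) * g⁻¹ := by group
          _ = _ := by rw [e]; group
      rw [hx', mul_assoc, fB _ (conj_mem_cj (mem_sup_right hb)) w hw, ← mul_assoc,
        fA _ (conj_mem_cj ha) w hw, mul_assoc]
    · refine ⟨hvA, (hstab v hv B (Or.inr rfl)).resolve_right fun hle => ?_⟩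
      exact hAB ((hinvl v hv A B hvA).trans hle)
  obtain ⟨v, hv, hv1⟩ : ∃ v ∈ V, v ≠ 1 := by
    by_contra hall
    push Not at hall
    exact hn fun v hv => (hall v hv) ▸ one_mem _
  have hall2 : ∀ w ∈ V, w ≠ 1 → w = v := by
    intro w hw hw1
    by_contra hne
    have h3 : w * v ≠ 1 := fun e => hne (by rw [eq_inv_of_mul_eq_one_left e, k.inv_eq' hv])
    have h4 := (hswap (w * v) (mul_mem hw hv) h3).1
    have h5 : cj (w * v) A ≤ A := by
      rw [← cj_mul]
      exact (cj_mono (hswap v hv hv1).1).trans (hswap w hw hw1).2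
    have h6 : A ≤ cj (w * v) A := by
      rw [eq_of_le_of_card_ge h5 (card_cj _ A).ge]
    exact hAB (h6.trans h4)
  -- now `V` has order two and `N(V)` is a `2`-group
  have hone : ∀ f, ∀ t ∈ cj f V, ∀ t' ∈ cj f V, t ≠ 1 → t' ≠ 1 → t = t' := by
    intro f t ht t' ht' h1 h2
    have e1 := hall2 _ (mem_cj.1 ht) (fun e => h1 (by
      calc t = f * (f⁻¹ * t * f) * f⁻¹ := by group
        _ = 1 := by rw [e]; group))
    have e2 := hall2 _ (mem_cj.1 ht') (fun e => h2 (by
      calc t' = f * (f⁻¹ * t' * f) * f⁻¹ := by group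
        _ = 1 := by rw [e]; group))
    calc t = f * (f⁻¹ * t * f) * f⁻¹ := by group
      _ = f * (f⁻¹ * t' * f) * f⁻¹ := by rw [e1, e2]
      _ = t' := by group
  have hcentV : ∀ x ∈ normalizer (V : Set G), ∀ w ∈ V, x * w = w * x := by
    intro x hx w hw
    by_cases hw1 : w = 1
    · rw [hw1, one_mul, mul_one]
    have h1 := (mem_normalizer_iff.1 hx w).1 hw
    refine mul_inv_eq_iff_eq_mul.1 ?_
    rw [hall2 _ h1 (fun e => hw1 (conj_eq_one_iff.1 e)), hall2 w hw hw1]
  have hodd : ∀ x ∈ normalizer (V : Set G), Odd (orderOf x) → x = 1 := by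
    intro x hx hxo
    have hpl : ∀ m ∈ normalizer (V : Set G), ∀ f, (Pair V Q f) → cj m (plane V f) ≤ plane V g ∨ cj m (plane V f) ≤ plane V h := by
      intro m hm f hf
      refine le_or_le fun y hy => ?_
      have hy' := mem_cj.1 hy
      have hyP : y ∈ P := by
        have := k.nrm_P hm (hf.plane_le_P hy')
        rwa [show m * (m⁻¹ * y * m) * m⁻¹ = y by group] at this
      refine hinv y hyP ?_
      calc y * y = m * (m⁻¹ * y * m * (m⁻¹ * y * m)) * m⁻¹ := by group
        _ = 1 := by rw [hsqp f hf _ hy']; group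
    have hfixed : ∀ S : Subgroup G, cj (x * x) S ≤ S → cj x S = S := by
      intro S hS
      rw [cj_eq_self_iff]
      have : x * x ∈ normalizer (S : Set G) := mem_normalizer_of_le fun a ha => hS (conj_mem_cj ha)
      exact zpowers_le.2 this (mem_zpowers_sq hxo)
    have hboth : cj x (plane V g) = plane V g ∧ cj x (plane V h) = plane V h := by
      have hnot : ∀ S T : Subgroup G, cj x S ≤ T → cj x T ≤ T → ¬ S ≤ T → False := by
        intro S T h1 h2 h3
        have : cj x T = T := eq_of_le_of_card_ge h2 (card_cj x T).ge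
        rw [← this] at h1
        refine h3 fun a ha => ?_
        have := h1 (conj_mem_cj (x := x) ha)
        rw [mem_cj] at this
        simpa [mul_assoc] using this
      rcases hpl x hx g s.left with h1 | h1 <;> rcases hpl x hx h s.right with h2 | h2
      · exact (hnot _ _ h2 h1 hUne).elim
      · exact ⟨eq_of_le_of_card_ge h1 (card_cj x _).ge, eq_of_le_of_card_ge h2 (card_cj x _).ge⟩
      · exact ⟨hfixed _ (by rw [← cj_mul]; exact (cj_mono h1).trans h2),
          hfixed _ (by rw [← cj_mul]; exact (cj_mono h2).trans h1)⟩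
      · exact (hnot _ _ h1 h2 hTne).elim
    have hcomm : ∀ f, Pair V Q f → cj x (plane V f) = plane V f → ∀ t ∈ cj f V, x * t = t * x := by
      intro f hf hfx t ht
      by_cases ht1 : t = 1
      · rw [ht1, one_mul, mul_one]
      have h1 : x * t * x⁻¹ ∈ plane V f := hfx ▸ conj_mem_cj (mem_sup_right ht)
      obtain ⟨w, hw, t', ht', e⟩ := hf.mem_plane.1 h1
      have ht'1 : t' ≠ 1 := by
        intro e1
        rw [e1, mul_one] at e
        have : t = w := by
          calc t = x⁻¹ * (x * t * x⁻¹) * x := by group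
            _ = w := by rw [e, mul_assoc, ← hcentV x hx w hw, inv_mul_cancel_left]
        exact ht1 (hf.disj (this ▸ hw) ht)
      rw [← hone f t ht t' ht' ht1 ht'1] at e
      have h2 : x * x * t = t * (x * x) := by
        calc x * x * t = x * (x * t * x⁻¹) * x := by group
          _ = (x * w) * (t * x) := by rw [e]; group
          _ = w * ((x * t * x⁻¹) * x * x) := by rw [hcentV x hx w hw]; group
          _ = (w * w) * t * (x * x) := by rw [e]; group
          _ = t * (x * x) := by rw [k.sq' hw, one_mul]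
      exact mem_centralizer_singleton_iff.1
        ((zpowers_le.2 (mem_centralizer_singleton_iff.2 h2)) (mem_zpowers_sq hxo))
    have hQ : x ∈ Q := k.self x hx fun a ha => by
      have haP : a ∈ P := ⟨ha, mem_centralizer_iff.2 fun w hw => (hcentV a (k.le ha) w hw).symm⟩
      obtain ⟨p, hp, u, hu, rfl⟩ := hplane a haP
      obtain ⟨w, hw, t, ht, rfl⟩ := s.left.mem_plane.1 hp
      rw [← mul_assoc x, ← mul_assoc x, hcentV x hx w hw, mul_assoc w, hcomm g s.left hboth.1 t ht,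
        ← mul_assoc w, mul_assoc (w * t), hcomm h s.right hboth.2 u hu, ← mul_assoc]
    obtain ⟨i, hi⟩ := k.pgroup ⟨x, hQ⟩
    have hxi : x ^ 2 ^ i = 1 := congrArg Subtype.val hi
    exact orderOf_eq_one_iff.1 (Nat.eq_one_of_dvd_coprimes
      (Nat.Coprime.pow_left i (Nat.coprime_two_left.2 hxo)) (orderOf_dvd_of_pow_eq_one hxi) dvd_rfl)
  have hMp : IsPGroup 2 (normalizer (V : Set G)) := by
    intro x
    obtain ⟨j, m, hm, hjm⟩ := Nat.exists_eq_two_pow_mul_odd (orderOf_pos (x : G)).ne'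
    refine ⟨j, Subtype.ext ?_⟩
    rw [SubmonoidClass.coe_pow, OneMemClass.coe_one]
    refine hodd _ (pow_mem x.2 _) (hm.of_dvd_nat (orderOf_dvd_of_pow_eq_one ?_))
    rw [← pow_mul, ← hjm, pow_orderOf_eq_one]
  have hMQ : normalizer (V : Set G) ≤ Q :=
    k.core _ le_rfl hMp fun m hm a ha => mul_mem (mul_mem hm ha) (inv_mem hm)
  refine hn fun w hw => ?_
  rw [mem_cj]
  refine hMQ (mem_normalizer_of_le fun a ha => ?_)
  have := s.left.comm_V (conj_mem_cj (x := g) ha) hw
  have e : g⁻¹ * w * g * a * (g⁻¹ * w * g)⁻¹ = a := by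
    calc g⁻¹ * w * g * a * (g⁻¹ * w * g)⁻¹ = g⁻¹ * (w * (g * a * g⁻¹)) * w⁻¹ * g := by group
      _ = g⁻¹ * ((g * a * g⁻¹) * w) * w⁻¹ * g := by rw [← this]
      _ = a := by group
  rwa [e]

end Side

/-- The symmetric relation. -/
theorem Pair.V_le_conj {g : G} (k : Pair V Q g) : V ≤ cj g Q := by
  obtain ⟨h, s⟩ := k.exists_side
  exact s.V_le_conj

end CfsgLib.Invol.TIPair
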